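import Groth.Agent.CohVanish.Compare

/-!
# Classes which die on an open die in a sheaf local at that open (Kempf's lemma)

`meetSh V F` is the sheaf `W ↦ F (W ⊓ V)`, i.e. `j_* j^* F`.  If `F` has no cohomology in degrees
`1, …, n - 1` on the meets of `V` with a basis, a class in `Hⁿ(U, F)` which vanishes on `U ⊓ V` maps to
zero in `Hⁿ(U, j_* j^* F)`.
-/

universe u

open CategoryTheory Limits Opposite TopologicalSpace Abelian

namespace Groth.Agent.CohVanish

variable {X : TopCat.{u}}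

/-- `W ↦ W ⊓ V`. -/
def meetFun (V : Opens X) : Opens X ⥤ Opens X :=
  Monotone.functor (f := fun W => W ⊓ V) (fun _ _ h => inf_le_inf_right V h)

theorem meetFun_isContinuous (V : Opens X) :
    (meetFun V).IsContinuous (Opens.grothendieckTopology X) (Opens.grothendieckTopology X) := by
  apply Functor.isContinuous_of_coverPreserving
  · refine ⟨fun ℱ Z T x hx Y₁ Y₂ W f₁ f₂ g₁ g₂ hg₁ hg₂ _ => ?_⟩
    have hW : W ≤ (meetFun V).obj (Y₁ ⊓ Y₂) :=
      le_inf (le_inf (f₁.le.trans inf_le_left) (f₂.le.trans inf_le_left)) (f₁.le.trans inf_le_right)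
    have h := congrArg (fun s => ℱ.obj.map (homOfLE hW).op s)
      (hx (homOfLE inf_le_left : Y₁ ⊓ Y₂ ⟶ Y₁) (homOfLE inf_le_right : Y₁ ⊓ Y₂ ⟶ Y₂) hg₁ hg₂
        (Subsingleton.elim _ _))
    simp only [Functor.comp_map, ← CategoryTheory.comp_apply, ← Functor.map_comp] at h
    exact h
  · refine ⟨fun {U S} hS x hx => ?_⟩
    obtain ⟨W, i, hi, hxW⟩ := hS x hx.1
    exact ⟨_, (meetFun V).map i, ⟨W, i, 𝟙 _, hi, Subsingleton.elim _ _⟩, ⟨hxW, hx.2⟩⟩

/-- The natural map `W ⊓ V ⟶ W`. -/
def meetNat (V : Opens X) : meetFun V ⟶ 𝟭 (Opens X) where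
  app _ := homOfLE inf_le_left

/-- `j_* j^*` for the open `V`, as precomposition with `W ↦ W ⊓ V`. -/
noncomputable def meetSh (V : Opens X) : AbSh X ⥤ AbSh X :=
  haveI := meetFun_isContinuous V
  (meetFun V).sheafPushforwardContinuous AddCommGrpCat.{u} _ _

instance (V : Opens X) : (meetSh V).Additive where

instance (V : Opens X) : PreservesFiniteLimits (meetSh V) := by
  have : PreservesFiniteLimits (meetSh V ⋙ sheafToPresheaf _ _) :=
    inferInstanceAs (PreservesFiniteLimits (sheafToPresheaf _ _ ⋙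
      (Functor.whiskeringLeft _ _ AddCommGrpCat.{u}).obj (meetFun V).op))
  exact preservesFiniteLimits_of_reflects_of_preserves _ (sheafToPresheaf _ _)

/-- Restriction to the meets with `V`. -/
noncomputable def meetUnit (V : Opens X) : 𝟭 (AbSh X) ⟶ meetSh V where
  app F :=
    ⟨{ app := fun W => F.obj.map ((meetNat V).app W.unop).op
       naturality := fun {W W'} i => by
        change F.obj.map i ≫ F.obj.map _ = F.obj.map _ ≫ F.obj.map _
        rw [← Functor.map_comp, ← Functor.map_comp]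
        rfl }⟩
  naturality F G φ := by
    ext W : 3
    exact (φ.hom.naturality ((meetNat V).app W.unop).op).symm

/-- A sheaf is local at `V` if its sections over any `W` are its sections over `W ⊓ V`. -/
def IsLocalAt (V : Opens X) (G : AbSh X) : Prop := IsIso ((meetUnit V).app G)

lemma isLocalAt_of_isBasis (V : Opens X) (G : AbSh X) {ι : Type*} (B : ι → Opens X)
    (hB : Opens.IsBasis (Set.range B))
    (h : ∀ i, Function.Bijective
      (G.obj.map (homOfLE (inf_le_left : B i ⊓ V ≤ B i)).op)) : IsLocalAt V G :=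
  TopCat.Sheaf.isIso_iff_isIso_basis (φ := (meetUnit V).app G) hB
    (fun i => (ConcreteCategory.isIso_iff_bijective _).mpr (h i))

section

variable (V : Opens X) {S : ShortComplex (AbSh X)} (hS : S.ShortExact)

lemma eMap_meetUnit_eDelta_zero (U : Opens X) (q : EU S.X₃ U 0)
    (ha : eRes S.X₁ (homOfLE (inf_le_left : U ⊓ V ≤ U)) 1 (eDelta hS U 0 q) = 0) :
    eMap ((meetUnit V).app S.X₁) U 1 (eDelta hS U 0 q) = 0 := by
  let f' := (S.map (meetSh V)).f
  have hf' : Mono f' := (((Functor.preservesFiniteLimits_tfae (meetSh V)).out 1 3 rfl rfl).mpr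
    inferInstance S ⟨hS.exact, hS.mono_f⟩).2
  have hex := (((Functor.preservesFiniteLimits_tfae (meetSh V)).out 1 3 rfl rfl).mpr
    inferInstance S ⟨hS.exact, hS.mono_f⟩).1
  have hw : f' ≫ (S.map (meetSh V)).g = 0 := (S.map (meetSh V)).zero
  let T : ShortComplex (AbSh X) := ShortComplex.mk f' (cokernel.π f') (cokernel.condition f')
  have hT : T.ShortExact :=
    { exact := ShortComplex.exact_of_g_is_cokernel _ (cokernelIsCokernel _)
      mono_f := hf'
      epi_g := coequalizer.π_epi }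
  have hcw : S.f ≫ (meetUnit V).app S.X₂ ≫ cokernel.π f' = 0 := by
    refine (Category.assoc _ _ _).symm.trans ?_
    refine (congrArg (· ≫ cokernel.π f') ((meetUnit V).naturality S.f)).trans ?_
    exact (Category.assoc _ _ _).trans
      ((congrArg _ (cokernel.condition f')).trans comp_zero)
  have hcol : IsColimit (CokernelCofork.ofπ S.g S.zero) := hS.gIsCokernel
  obtain ⟨τ, hτ⟩ : ∃ τ : S.X₃ ⟶ T.X₃, S.g ≫ τ = (meetUnit V).app S.X₂ ≫ cokernel.π f' :=
    ⟨hcol.desc (CokernelCofork.ofπ _ hcw), hcol.fac (CokernelCofork.ofπ _ hcw) WalkingParallelPair.one⟩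
  let φ : S ⟶ T :=
    { τ₁ := (meetUnit V).app _
      τ₂ := (meetUnit V).app _
      τ₃ := τ
      comm₁₂ := ((meetUnit V).naturality S.f).symm
      comm₂₃ := hτ.symm }
  refine (eDelta_naturality hS hT φ U 0 q).trans ?_
  rw [eDelta_eRes] at ha
  obtain ⟨t, ht⟩ := (eDelta_zero_eq_zero hS _ _).1 ha
  refine (eDelta_zero_eq_zero hT U _).2 ⟨t, ?_⟩
  let ψ : T.X₃ ⟶ (meetSh V).obj S.X₃ := cokernel.desc f' _ hw
  have hψ : Mono (cokernel.desc (S.map (meetSh V)).f (S.map (meetSh V)).g (S.map (meetSh V)).zero) :=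
    hex.mono_cokernelDesc
  have hψ' : Function.Injective (ψ.hom.app (op U)) := by
    rw [← AddCommGrpCat.mono_iff_injective]
    haveI : Mono ψ := hψ
    have : Mono ψ.hom := inferInstanceAs (Mono ((sheafToPresheaf _ _).map ψ))
    exact inferInstanceAs (Mono (((evaluation _ AddCommGrpCat.{u}).obj (op U)).map ψ.hom))
  apply hψ'
  have e1 : T.g ≫ ψ = (meetSh V).map S.g := cokernel.π_desc _ _ hw
  have e2 : τ ≫ ψ = (meetUnit V).app S.X₃ := by
    have : Epi S.g := hS.epi_g
    rw [← cancel_epi S.g, ← Category.assoc, hτ]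
    exact (Category.assoc _ _ _).trans ((congrArg _ (cokernel.π_desc f' _ hw)).trans
      ((meetUnit V).naturality S.g).symm)
  refine (congr($(e1).hom.app (op U) t)).trans ?_
  rw [eu0_eMap]
  refine Eq.trans ?_ (congr($(e2).hom.app (op U) (eu0 U S.X₃ q))).symm
  exact ht.trans (eu0_eRes _ _ _)

lemma eMap_meetUnit_eDelta_succ [Injective S.X₂] (he : Epi ((meetSh V).map S.g)) (U : Opens X)
    (n : ℕ) (q : EU S.X₃ U (n + 1))
    (ha : eRes S.X₁ (homOfLE (inf_le_left : U ⊓ V ≤ U)) (n + 2) (eDelta hS U (n + 1) q) = 0)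
    (ih : eRes S.X₃ (homOfLE (inf_le_left : U ⊓ V ≤ U)) (n + 1) q = 0 →
      eMap ((meetUnit V).app S.X₃) U (n + 1) q = 0) :
    eMap ((meetUnit V).app S.X₁) U (n + 2) (eDelta hS U (n + 1) q) = 0 := by
  have h2 := shortExact_map_of_epi (meetSh V) hS he
  let φ : S ⟶ S.map (meetSh V) :=
    { τ₁ := (meetUnit V).app _
      τ₂ := (meetUnit V).app _
      τ₃ := (meetUnit V).app _
      comm₁₂ := ((meetUnit V).naturality _).symm
      comm₂₃ := ((meetUnit V).naturality _).symm }
  refine (eDelta_naturality hS h2 φ U (n + 1) q).trans ?_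
  rw [eDelta_eRes] at ha
  refine Eq.trans (congrArg _ (ih ?_)) (map_zero _)
  exact eDelta_injective hS (U ⊓ V) (n + 1) (ha.trans (map_zero _).symm)

end

variable {ι : Type*} (B : ι → Opens X) (hB : Opens.IsBasis (Set.range B)) (V : Opens X)

include hB in
lemma eMap_meetUnit_eq_zero (n : ℕ) : ∀ (F : AbSh X)
    (_ : ∀ i m, m < n → Subsingleton (EU F (B i ⊓ V) (m + 1))) (U : Opens X) (a : EU F U (n + 1)),
    eRes F (homOfLE (inf_le_left : U ⊓ V ≤ U)) (n + 1) a = 0 →
      eMap ((meetUnit V).app F) U (n + 1) a = 0 := by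
  induction n with
  | zero =>
    intro F _ U a ha
    obtain ⟨q, rfl⟩ := eDelta_surjective (injSES_shortExact F) U 0 a
    exact eMap_meetUnit_eDelta_zero V (injSES_shortExact F) U q ha
  | succ n ih =>
    intro F hF U a ha
    have h1 := injSES_shortExact F
    obtain ⟨q, rfl⟩ := eDelta_surjective h1 U (n + 1) a
    have he : Epi ((meetSh V).map (injSES F).g) := epi_of_local_lifts _ fun W s x hx => by
      obtain ⟨_, ⟨i, rfl⟩, hxi, hiW⟩ := Opens.isBasis_iff_nbhd.mp hB hx
      have : Subsingleton (EU (injSES F).X₁ (B i ⊓ V) 1) := hF i 0 (Nat.succ_pos n)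
      exact ⟨B i, hiW, hxi, surjective_app_of_subsingleton h1 (B i ⊓ V) _⟩
    refine eMap_meetUnit_eDelta_succ V h1 he U n q ha (ih (injSES F).X₃ (fun i m hm => ?_) U q)
    have : Subsingleton (EU (injSES F).X₁ (B i ⊓ V) (m + 1 + 1)) := hF i (m + 1) (by lia)
    exact (eDelta_injective h1 (B i ⊓ V) (m + 1)).subsingleton

include hB in
/-- **Kempf's lemma**. -/
theorem eMap_eq_zero_of_isLocalAt {F G : AbSh X} (φ : F ⟶ G) (hG : IsLocalAt V G) (U : Opens X)
    (n : ℕ) (hF : ∀ i m, m < n → Subsingleton (EU F (B i ⊓ V) (m + 1))) (a : EU F U (n + 1))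
    (ha : eRes F (homOfLE (inf_le_left : U ⊓ V ≤ U)) (n + 1) a = 0) :
    eMap φ U (n + 1) a = 0 := by
  have := hG
  unfold IsLocalAt at this
  have e : φ = (meetUnit V).app F ≫ (meetSh V).map φ ≫ inv ((meetUnit V).app G) := by
    rw [← Category.assoc, ← (meetUnit V).naturality φ, Functor.id_map, Category.assoc,
      IsIso.hom_inv_id, Category.comp_id]
  rw [e, eMap_comp, eMap_meetUnit_eq_zero B hB V n F hF U a ha, map_zero]

end Groth.Agent.CohVanish
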