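import Groth.Agent.CohVanish.Global
import Groth.Agent.CohVanish.Local
import Groth.Agent.QCohLib.Affine
import Groth.Prelude.Def_Coh

/-!
# Vanishing of the cohomology of quasi-coherent modules on affine schemes (Serre)

Kempf's proof, by induction on the degree.
-/

universe u

open CategoryTheory Limits Opposite TopologicalSpace AlgebraicGeometry Abelian

namespace Groth.Agent.CohVanish

/-- The space underlying a scheme. -/
abbrev sp (X : Scheme.{u}) : TopCat.{u} := X.toPresheafedSpace.carrier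

/-- The underlying abelian sheaf, as a functor. -/
noncomputable abbrev toAbF (X : Scheme.{u}) : X.Modules ⥤ AbSh (sp X) :=
  SheafOfModules.toSheaf X.ringCatSheaf

instance (X : Scheme.{u}) : (toAbF X).Additive where

instance (X : Scheme.{u}) : PreservesFiniteLimits (toAbF X) :=
  inferInstanceAs (PreservesFiniteLimits (SheafOfModules.toSheaf.{u} X.ringCatSheaf))

instance (X : Scheme.{u}) : PreservesFiniteColimits (toAbF X) :=
  inferInstanceAs (PreservesFiniteColimits (QCohLib.toSh X))

lemma shortExact_toAb {X : Scheme.{u}} {S : ShortComplex X.Modules} (hS : S.ShortExact) :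
    (S.map (toAbF X)).ShortExact := hS.map_of_exact (toAbF X)

/-- Isomorphic modules have the same cohomology. -/
lemma subsingleton_HH_of_iso {X : Scheme.{u}} {M N : X.Modules} (e : M ≅ N) (n : ℕ)
    (h : Subsingleton (Coh.HH X M n)) : Subsingleton (Coh.HH X N n) :=
  haveI : Subsingleton ((Sheaf.functorH (Opens.grothendieckTopology X) n).obj ((toAbF X).obj M)) :=
    h
  ((Sheaf.functorH (Opens.grothendieckTopology X) n).mapIso
    ((toAbF X).mapIso e)).addCommGroupIsoToAddEquiv.symm.injective.subsingleton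

/-- Cohomology on an open subscheme. -/
theorem nonempty_EU_equiv_HH {U X : Scheme.{u}} (f : U ⟶ X) [IsOpenImmersion f] (M : X.Modules)
    (n : ℕ) :
    Nonempty (EU (X := sp X) (Coh.toAb M) f.opensRange n ≃+ Coh.HH U (M.restrict f) n) :=
  nonempty_H_restrict_equiv (Y := sp X) f.isOpenEmbedding (Coh.toAb M) f.opensRange
    (Scheme.Hom.image_top_eq_opensRange f) n

/-- Pushforward of classes is additive in the morphism. -/
lemma eMap_sum {Y : TopCat.{u}} {F G : AbSh Y} (U : Opens Y) (n : ℕ) (a : EU F U n) {κ : Type*}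
    (t : Finset κ) (φ : κ → (F ⟶ G)) : eMap (∑ i ∈ t, φ i) U n a = ∑ i ∈ t, eMap (φ i) U n a :=
  map_sum (AddMonoidHom.mk' (fun ψ : F ⟶ G => eMap ψ U n a) fun ψ χ => by
    simp [eMap_apply, Ext.mk₀_add]) φ t

section Spec

variable {R : CommRingCat.{u}}

/-- The basic opens of `Spec R`. -/
noncomputable abbrev bas (R : CommRingCat.{u}) (g : R) : Opens (sp (Spec R)) :=
  PrimeSpectrum.basicOpen g

lemma isBasis_bas (R : CommRingCat.{u}) : Opens.IsBasis (Set.range (bas R)) :=
  PrimeSpectrum.isBasis_basic_opens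

/-- Localising at `g` and at `g * f` agree on a module on which `f` acts invertibly. -/
lemma bijective_of_isLocalizedModule {A : Type*} [CommRing A] {L P Q : Type*} [AddCommGroup L]
    [Module A L] [AddCommGroup P] [Module A P] [AddCommGroup Q] [Module A Q] (g f : A)
    (φ : L →ₗ[A] P) (ψ : L →ₗ[A] Q) (ρ : P →ₗ[A] Q) (h : ∀ l, ρ (φ l) = ψ l)
    [IsLocalizedModule (Submonoid.powers g) φ] [IsLocalizedModule (Submonoid.powers (g * f)) ψ]
    (hf : Function.Bijective fun l : L => f • l) : Function.Bijective ρ := by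
  have hfp : ∀ m : ℕ, Function.Bijective fun l : L => f ^ m • l := by
    intro m
    induction m with
    | zero => simp only [pow_zero, one_smul]; exact Function.bijective_id
    | succ m ih => simpa only [pow_succ, mul_smul, Function.comp_def] using ih.comp hf
  have hgP : ∀ m : ℕ, Function.Bijective fun p : P => g ^ m • p := fun m =>
    (Module.End.isUnit_iff _).mp (IsLocalizedModule.map_units φ (⟨g ^ m, m, rfl⟩ : Submonoid.powers g))
  have hgQ : ∀ m : ℕ, Function.Bijective fun q : Q => (g * f) ^ m • q := fun m =>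
    (Module.End.isUnit_iff _).mp
      (IsLocalizedModule.map_units ψ (⟨(g * f) ^ m, m, rfl⟩ : Submonoid.powers (g * f)))
  refine ⟨(injective_iff_map_eq_zero ρ).mpr fun x hx => ?_, fun y => ?_⟩
  · obtain ⟨⟨l, _, k, rfl⟩, hk⟩ := IsLocalizedModule.surj (Submonoid.powers g) φ x
    replace hk : g ^ k • x = φ l := hk
    have h1 : ψ l = 0 := by rw [← h, ← hk, map_smul, hx, smul_zero]
    obtain ⟨⟨_, m, rfl⟩, hm⟩ := (IsLocalizedModule.eq_zero_iff (Submonoid.powers (g * f)) ψ).mp h1
    replace hm : (g * f) ^ m • l = 0 := hm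
    have h2 : g ^ m • l = 0 := (hfp m).1 (by
      change f ^ m • g ^ m • l = f ^ m • (0 : L)
      rw [smul_zero, ← mul_smul, ← mul_pow, mul_comm, hm])
    have h3 : g ^ m • (g ^ k • x) = 0 := by rw [hk, ← map_smul, h2, map_zero]
    apply (hgP k).1
    apply (hgP m).1
    change g ^ m • g ^ k • x = g ^ m • g ^ k • (0 : P)
    rw [h3, smul_zero, smul_zero]
  · obtain ⟨⟨l, _, k, rfl⟩, hk⟩ := IsLocalizedModule.surj (Submonoid.powers (g * f)) ψ y
    replace hk : (g * f) ^ k • y = ψ l := hk
    obtain ⟨l', rfl⟩ := (hfp k).2 l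
    obtain ⟨x, hx⟩ := (hgP k).2 (φ l')
    replace hx : g ^ k • x = φ l' := hx
    refine ⟨x, (hgQ k).1 ?_⟩
    change (g * f) ^ k • ρ x = (g * f) ^ k • y
    rw [hk, mul_pow, mul_comm, mul_smul, ← map_smul ρ, hx, h, ← map_smul]

/-- `tilde L` is local at `D(f)` when `f` acts invertibly on `L`. -/
lemma isLocalAt_tilde (L : ModuleCat.{u} R) (f : R)
    (hf : Function.Bijective fun l : L => f • l) :
    IsLocalAt (bas R f) ((toAbF (Spec R)).obj (tilde L)) := by
  refine isLocalAt_of_isBasis _ _ (bas R) (isBasis_bas R) fun g => ?_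
  have hle : PrimeSpectrum.basicOpen (g * f) ≤ bas R g := PrimeSpectrum.basicOpen_mul_le_left g f
  have hE : bas R g ⊓ bas R f = PrimeSpectrum.basicOpen (g * f) :=
    (PrimeSpectrum.basicOpen_mul g f).symm
  let F := (modulesSpecToSheaf.obj (tilde L)).obj
  suffices h : Function.Bijective (F.map (homOfLE hle).op) by
    have key : ∀ (E : Opens (sp (Spec R))) (hEg : E ≤ bas R g),
        E = PrimeSpectrum.basicOpen (g * f) → Function.Bijective (F.map (homOfLE hEg).op) := by
      intro E hEg hE'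
      subst hE'
      exact h
    exact key _ inf_le_left hE
  exact bijective_of_isLocalizedModule g f (tilde.toOpen L (PrimeSpectrum.basicOpen g)).hom
    (tilde.toOpen L (PrimeSpectrum.basicOpen (g * f))).hom (F.map (homOfLE hle).op).hom
    (fun l => congr($(tilde.toOpen_res L _ _ (homOfLE hle)) l)) hf

lemma exists_injective_into_localizations (N : ModuleCat.{u} R) (s : Finset R)
    (hs : Ideal.span (s : Set R) = ⊤) :
    Function.Injective (LinearMap.pi fun i : s =>
      LocalizedModule.mkLinearMap (Submonoid.powers (i : R)) N) := by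
  rw [injective_iff_map_eq_zero]
  intro a ha
  let I := LinearMap.ker (LinearMap.toSpanSingleton R N a)
  have : ∀ i : s, ∃ n : ℕ, (i : R) ^ n ∈ I := fun i => by
    obtain ⟨⟨_, n, rfl⟩, hn⟩ := (IsLocalizedModule.eq_zero_iff (Submonoid.powers (i : R))
      (LocalizedModule.mkLinearMap (Submonoid.powers (i : R)) N)).mp (congrFun ha i)
    exact ⟨n, hn⟩
  have h1 : (1 : R) ∈ Ideal.radical I := by
    refine Ideal.span_le.mpr ?_ (hs ▸ Submodule.mem_top)
    exact fun f hf => this ⟨f, hf⟩
  obtain ⟨n, hn⟩ := h1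
  simpa [I] using hn

lemma exists_finset_eRes_eq_zero (F : AbSh (sp (Spec R))) (n : ℕ) (a : EU F ⊤ (n + 1)) :
    ∃ s : Finset R, Ideal.span (s : Set R) = ⊤ ∧ ∀ f ∈ s,
      eRes F (homOfLE (inf_le_left : ⊤ ⊓ bas R f ≤ ⊤)) (n + 1) a = 0 := by
  classical
  let S : Set R := {f | eRes F (homOfLE (inf_le_left : ⊤ ⊓ bas R f ≤ ⊤)) (n + 1) a = 0}
  have hS : Ideal.span S = ⊤ := by
    rw [← PrimeSpectrum.iSup_basicOpen_eq_top_iff']
    refine top_le_iff.mp fun x _ => ?_
    obtain ⟨W, hW, hxW, hres⟩ := exists_eRes_eq_zero F ⊤ n a x trivial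
    obtain ⟨_, ⟨g, rfl⟩, hxg, hgW⟩ := Opens.isBasis_iff_nbhd.mp (isBasis_bas R) hxW
    have hgS : g ∈ S := by
      change eRes F _ (n + 1) a = 0
      rw [show homOfLE (inf_le_left : ⊤ ⊓ bas R g ≤ ⊤) =
        homOfLE (inf_le_right.trans hgW : ⊤ ⊓ bas R g ≤ W) ≫ homOfLE hW from Subsingleton.elim _ _,
        ← eRes_eRes, hres, map_zero]
    exact Opens.mem_iSup.mpr ⟨g, Opens.mem_iSup.mpr ⟨hgS, hxg⟩⟩
  obtain ⟨s, hs, hs'⟩ := (Ideal.span_eq_top_iff_finite S).mp hS
  exact ⟨s, hs', fun f hf => hs hf⟩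

/-- `~` of a surjection is surjective on global sections. -/
lemma tilde_map_app_top_surjective {M N : ModuleCat.{u} R} (f : M ⟶ N)
    (hf : Function.Surjective f) : Function.Surjective ((tilde.map f).app ⊤) := by
  intro s
  obtain ⟨n, rfl⟩ := (ConcreteCategory.bijective_of_isIso (tilde.toOpen N ⊤)).2 s
  obtain ⟨m, rfl⟩ := hf n
  exact ⟨tilde.toOpen M ⊤ m, congr($(tilde.toOpen_map_app f ⊤) m)⟩

/-- The degree step of Kempf's induction. -/
lemma eq_zero_of_lower_vanishing (N : ModuleCat.{u} R) (n : ℕ)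
    (ih1 : ∀ (M : ModuleCat.{u} R) (g : R) (m : ℕ), m < n →
      Subsingleton (EU ((toAbF (Spec R)).obj (tilde M)) (bas R g) (m + 1)))
    (a : EU ((toAbF (Spec R)).obj (tilde N)) ⊤ (n + 1)) : a = 0 := by
  classical
  let Φ := tilde.functor R ⋙ toAbF (Spec R)
  obtain ⟨s, hs, hsa⟩ := exists_finset_eRes_eq_zero _ n a
  let Li : s → ModuleCat.{u} R := fun i =>
    ModuleCat.of R (LocalizedModule (Submonoid.powers (i : R)) N)
  let P : ModuleCat.{u} R := ModuleCat.of R (∀ i, Li i)
  let ι : N ⟶ P := ModuleCat.ofHom (LinearMap.pi fun i : s =>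
    LocalizedModule.mkLinearMap (Submonoid.powers (i : R)) N)
  let S0 : ShortComplex (ModuleCat.{u} R) :=
    ShortComplex.mk ι (cokernel.π ι) (cokernel.condition ι)
  have hS0 : S0.ShortExact :=
    { exact := ShortComplex.exact_of_g_is_cokernel _ (cokernelIsCokernel _)
      mono_f := (ModuleCat.mono_iff_injective _).mpr (exists_injective_into_localizations N s hs)
      epi_g := coequalizer.π_epi }
  have hS : (S0.map Φ).ShortExact :=
    shortExact_toAb (hS0.map_of_exact (tilde.functor R))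
  let pr : ∀ i : s, P ⟶ Li i := fun i => ModuleCat.ofHom (LinearMap.proj i)
  let inc : ∀ i : s, Li i ⟶ P := fun i => ModuleCat.ofHom (LinearMap.single R (fun j => Li j) i)
  have hsum : 𝟙 P = ∑ i : s, pr i ≫ inc i := by
    refine ModuleCat.hom_ext (LinearMap.ext fun z => ?_)
    simp only [ModuleCat.hom_id, ModuleCat.hom_sum, ModuleCat.hom_comp]
    refine Eq.trans ?_ (LinearMap.sum_apply _ _ _).symm
    exact (Finset.univ_sum_single z).symm
  have hunit : ∀ i : s, Function.Bijective fun l : Li i => (i : R) • l := fun i =>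
    (Module.End.isUnit_iff _).mp (IsLocalizedModule.map_units
      (LocalizedModule.mkLinearMap (Submonoid.powers (i : R)) N)
      (⟨i, Submonoid.mem_powers _⟩ : Submonoid.powers (i : R)))
  have hzero : eMap (Φ.map ι) ⊤ (n + 1) a = 0 := by
    have e : Φ.map ι = ∑ i : s, Φ.map (ι ≫ pr i) ≫ Φ.map (inc i) := by
      simp only [← Functor.map_comp, ← Functor.map_sum, Category.assoc, ← Preadditive.comp_sum,
        ← hsum, Category.comp_id]
    rw [e]
    refine (eMap_sum _ _ _ _ _).trans (Finset.sum_eq_zero fun i _ => ?_)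
    refine (eMap_comp (Φ.map (ι ≫ pr i)) (Φ.map (inc i)) ⊤ (n + 1) a).trans ?_
    refine Eq.trans (congrArg _ ?_) (map_zero _)
    refine eMap_eq_zero_of_isLocalAt (bas R) (isBasis_bas R) (bas R i) _
      (isLocalAt_tilde (Li i) i (hunit i)) ⊤ n (fun g m hm => ?_) a (hsa i i.2)
    rw [show bas R g ⊓ bas R i = bas R (g * i) from (PrimeSpectrum.basicOpen_mul g i).symm]
    exact ih1 N (g * i) m hm
  obtain ⟨q, hq⟩ := (eMap_f_eq_zero_iff hS ⊤ n a).mp hzero
  subst hq
  rcases n with _ | n
  · obtain ⟨t, ht⟩ : ∃ t, (S0.map Φ).g.hom.app (op ⊤) t = eu0 ⊤ _ q :=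
      tilde_map_app_top_surjective (cokernel.π ι)
        ((ModuleCat.epi_iff_surjective _).mp hS0.epi_g) _
    exact (eDelta_zero_eq_zero hS ⊤ q).mpr ⟨t, ht⟩
  · have htop : bas R 1 = ⊤ := PrimeSpectrum.basicOpen_one
    have hsub := ih1 (cokernel ι) 1 n (Nat.lt_succ_self n)
    rw [htop] at hsub
    have : q = 0 := hsub.elim _ _
    rw [this]
    exact (map_zero _).trans rfl

end Spec

/-- Cohomology on an open subscheme, for `⊤`. -/
theorem nonempty_HH_equiv_of_isIso {U X : Scheme.{u}} (f : U ⟶ X) [IsIso f] (M : X.Modules)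
    (n : ℕ) : Nonempty (Coh.HH X M n ≃+ Coh.HH U (M.restrict f) n) := by
  obtain ⟨e⟩ := nonempty_EU_equiv_HH f M n
  rw [Scheme.Hom.opensRange_of_isIso] at e
  exact ⟨(hEquiv (X := sp X) (Coh.toAb M) n).trans e⟩

/-- **Serre vanishing on affine schemes**, in degree `n + 1`. -/
theorem subsingleton_HH_succ_of_isAffine (n : ℕ) : ∀ (X : Scheme.{u}) [IsAffine X] (M : X.Modules)
    [M.IsQuasicoherent], Subsingleton (Coh.HH X M (n + 1)) := by
  induction n using Nat.strong_induction_on with
  | h n ih =>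
    have hspec : ∀ (R : CommRingCat.{u}) (N : ModuleCat.{u} R),
        Subsingleton (Coh.HH (Spec R) ((tilde.functor R).obj N) (n + 1)) := by
      intro R N
      have : Subsingleton (EU ((toAbF (Spec R)).obj (tilde N)) ⊤ (n + 1)) := by
        refine subsingleton_of_forall_eq 0 (eq_zero_of_lower_vanishing N n fun M g m hm => ?_)
        let U : (Spec R).Opens := PrimeSpectrum.basicOpen g
        have : IsAffine U := IsAffineOpen.Spec_basicOpen g
        obtain ⟨e⟩ := nonempty_EU_equiv_HH U.ι (tilde M) (m + 1)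
        rw [Scheme.Opens.opensRange_ι] at e
        have := ih m hm U.toScheme ((tilde M).restrict U.ι)
        exact e.injective.subsingleton
      exact (hEquiv (X := sp (Spec R)) ((toAbF (Spec R)).obj (tilde N)) (n + 1)).injective.subsingleton
    intro X _ M _
    obtain ⟨e⟩ := nonempty_HH_equiv_of_isIso X.isoSpec.inv M (n + 1)
    have := subsingleton_HH_of_iso (QCohLib.counitIso (M.restrict X.isoSpec.inv)) (n + 1)
      (hspec _ _)
    exact e.injective.subsingleton

/-- **Serre vanishing on affine schemes**. -/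
theorem subsingleton_HH_of_isAffine (X : Scheme.{u}) [IsAffine X] (M : X.Modules)
    [M.IsQuasicoherent] (p : ℕ) (hp : 0 < p) : Subsingleton (Coh.HH X M p) := by
  obtain ⟨n, rfl⟩ := Nat.exists_eq_succ_of_ne_zero hp.ne'
  exact subsingleton_HH_succ_of_isAffine n X M

/-- Quasi-coherent modules are acyclic on affine opens. -/
theorem subsingleton_EU_of_isAffineOpen {X : Scheme.{u}} (M : X.Modules) [M.IsQuasicoherent]
    {U : X.Opens} (hU : IsAffineOpen U) (n : ℕ) :
    Subsingleton (EU (X := sp X) (Coh.toAb M) U (n + 1)) := by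
  have : IsAffine U := hU
  obtain ⟨e⟩ := nonempty_EU_equiv_HH U.ι M (n + 1)
  rw [Scheme.Opens.opensRange_ι] at e
  have := subsingleton_HH_succ_of_isAffine n U.toScheme (M.restrict U.ι)
  exact e.injective.subsingleton

end Groth.Agent.CohVanish
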