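import Groth.Agent.CohVanish.Affine
import Groth.Agent.QCohLib.Closure

/-!
# Homomorphisms out of `O_X` and `O_X^n`, and cohomology in short exact sequences of modules
-/

universe u

open CategoryTheory Limits ZeroObject Opposite TopologicalSpace AlgebraicGeometry Abelian

namespace Groth.Agent.CohVanish

variable {X : Scheme.{u}}

/-- The structure sheaf as a module (local abbreviation). -/
noncomputable abbrev oMod (X : Scheme.{u}) : X.Modules := Coh.structureModule X

/-- The structure sheaf is quasi-coherent. -/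
theorem isQuasicoherent_oMod (X : Scheme.{u}) : (oMod X).IsQuasicoherent := by
  rw [QCohLib.isQuasicoherent_iff_affine]
  intro U
  have hU : IsAffineOpen U.1 := U.2
  exact QCohLib.isQuasicoherent_of_iso
    (tildeSelf ≪≫ (Scheme.Modules.restrictUnitIso hU.fromSpec).symm)

/-- The morphism `O_X ⟶ E` attached to a global section. -/
noncomputable def homOfSection (E : X.Modules) (s : Γ(E, ⊤)) : oMod X ⟶ E :=
  (SheafOfModules.unitHomEquiv (R := X.ringCatSheaf) E).symm
    (PresheafOfModules.sectionsMk (fun U => E.val.map (homOfLE (le_top (a := U.unop))).op s)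
      fun U V f => (E.val.map_comp_apply (homOfLE (le_top (a := U.unop))).op f s).symm)

lemma homOfSection_app (E : X.Modules) (s : Γ(E, ⊤)) (U : X.Opens) (r : Γ(X, U)) :
    (homOfSection E s).app U r = r • E.presheaf.map (homOfLE (le_top (a := U))).op s := rfl

/-- Sections of a binary biproduct. -/
lemma exists_app_inl_inr {M N : X.Modules} (U : X.Opens) (z : Γ(M ⊞ N, U)) :
    ∃ (a : Γ(M, U)) (b : Γ(N, U)),
      (biprod.inl : M ⟶ M ⊞ N).app U a + (biprod.inr : N ⟶ M ⊞ N).app U b = z := by
  refine ⟨(biprod.fst : M ⊞ N ⟶ M).app U z, (biprod.snd : M ⊞ N ⟶ N).app U z, ?_⟩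
  exact ConcreteCategory.congr_hom
    (congrArg (fun φ : M ⊞ N ⟶ M ⊞ N => φ.app U) (biprod.total (X := M) (Y := N))) z

lemma app_inl_desc {M N E : X.Modules} (f : M ⟶ E) (g : N ⟶ E) (U : X.Opens) (a : Γ(M, U)) :
    (biprod.desc f g).app U ((biprod.inl : M ⟶ M ⊞ N).app U a) = f.app U a :=
  ConcreteCategory.congr_hom (congrArg (fun φ : M ⟶ E => φ.app U) (biprod.inl_desc f g)) a

lemma app_inr_desc {M N E : X.Modules} (f : M ⟶ E) (g : N ⟶ E) (U : X.Opens) (b : Γ(N, U)) :
    (biprod.desc f g).app U ((biprod.inr : N ⟶ M ⊞ N).app U b) = g.app U b :=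
  ConcreteCategory.congr_hom (congrArg (fun φ : N ⟶ E => φ.app U) (biprod.inr_desc f g)) b

/-- A map from `O_X^n` with given images of the basis, for any class `P` containing the powers
of `O_X`. -/
theorem exists_free_hom (P : X.Modules → Prop) (hzero : ∀ Z : X.Modules, IsZero Z → P Z)
    (hstep : ∀ N, P N → P (oMod X ⊞ N)) (E : X.Modules) :
    ∀ (n : ℕ) (s : Fin n → Γ(E, ⊤)), ∃ (F : X.Modules) (σ : F ⟶ E), P F ∧
      (∀ U : X.Opens, Set.range (σ.app U) =
        (Submodule.span Γ(X, U) (Set.range fun i =>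
          E.presheaf.map (homOfLE (le_top (a := U))).op (s i)) : Set Γ(E, U))) := by
  intro n
  induction n with
  | zero =>
    intro s
    refine ⟨0, 0, hzero _ (isZero_zero _), fun U => ?_⟩
    rw [Set.range_eq_empty (fun i : Fin 0 => _), Submodule.span_empty]
    ext x
    exact ⟨fun ⟨y, hy⟩ => by rw [← hy]; rfl, fun hx => ⟨0, by rw [hx]; exact map_zero _⟩⟩
  | succ n ih =>
    intro s
    obtain ⟨F, σ, hF, hσ⟩ := ih (fun i => s i.castSucc)
    refine ⟨oMod X ⊞ F, biprod.desc (homOfSection E (s (Fin.last n))) σ, hstep F hF, fun U => ?_⟩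
    refine Set.Subset.antisymm ?_ fun x hx => ?_
    · rintro _ ⟨z, rfl⟩
      obtain ⟨a, b, rfl⟩ := exists_app_inl_inr U z
      rw [map_add, app_inl_desc, app_inr_desc]
      refine Submodule.add_mem _ ?_ ?_
      · exact Submodule.smul_mem _ _ (Submodule.subset_span ⟨Fin.last n, rfl⟩)
      · refine Submodule.span_mono ?_ ((hσ U).le ⟨b, rfl⟩)
        rintro _ ⟨i, rfl⟩
        exact ⟨i.castSucc, rfl⟩
    · obtain ⟨c, rfl⟩ := (Submodule.mem_span_range_iff_exists_fun _).mp hx
      obtain ⟨b, hb⟩ := (hσ U).ge (sum_mem (t := Finset.univ) fun (i : Fin n) _ =>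
        Submodule.smul_mem _ (c i.castSucc) (Submodule.subset_span ⟨i, rfl⟩))
      refine ⟨(biprod.inl : oMod X ⟶ oMod X ⊞ F).app U (c (Fin.last n)) +
        (biprod.inr : F ⟶ oMod X ⊞ F).app U b, ?_⟩
      refine (map_add _ _ _).trans ((congrArg₂ (· + ·) (app_inl_desc _ _ _ _)
        ((app_inr_desc _ _ _ _).trans hb)).trans ?_)
      rw [Fin.sum_univ_castSucc, add_comm]
      rfl

/-- `H^{n}` of the middle term of a short exact sequence vanishes if the outer ones do. -/
theorem subsingleton_HH_of_shortExact₂ {S : ShortComplex X.Modules} (hS : S.ShortExact) (n : ℕ)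
    (h₁ : Subsingleton (Coh.HH X S.X₁ n)) (h₃ : Subsingleton (Coh.HH X S.X₃ n)) :
    Subsingleton (Coh.HH X S.X₂ n) := by
  have hS' := shortExact_toAb hS
  have : Subsingleton (EU (S.map (toAbF X)).X₁ ⊤ n) :=
    (hEquiv (X := sp X) (Coh.toAb S.X₁) n).symm.injective.subsingleton
  have : Subsingleton (EU (S.map (toAbF X)).X₃ ⊤ n) :=
    (hEquiv (X := sp X) (Coh.toAb S.X₃) n).symm.injective.subsingleton
  have h : Subsingleton (EU (X := sp X) (Coh.toAb S.X₂) ⊤ n) := subsingleton_of_forall_eq 0 fun x => by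
    obtain ⟨y, rfl⟩ := (eMap_g_eq_zero_iff hS' ⊤ n x).mp (Subsingleton.elim _ _)
    rw [Subsingleton.elim y 0]
    exact map_zero _
  exact (hEquiv (X := sp X) (Coh.toAb S.X₂) n).injective.subsingleton

/-- If `H^n` of the middle term and `H^{n+1}` of the left term vanish, so does `H^n` of the right
term. -/
theorem subsingleton_HH_of_shortExact₃ {S : ShortComplex X.Modules} (hS : S.ShortExact) (n : ℕ)
    (h₂ : Subsingleton (Coh.HH X S.X₂ n)) (h₁ : Subsingleton (Coh.HH X S.X₁ (n + 1))) :
    Subsingleton (Coh.HH X S.X₃ n) := by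
  have hS' := shortExact_toAb hS
  have : Subsingleton (EU (S.map (toAbF X)).X₂ ⊤ n) :=
    (hEquiv (X := sp X) (Coh.toAb S.X₂) n).symm.injective.subsingleton
  have : Subsingleton (EU (S.map (toAbF X)).X₁ ⊤ (n + 1)) :=
    (hEquiv (X := sp X) (Coh.toAb S.X₁) (n + 1)).symm.injective.subsingleton
  have h : Subsingleton (EU (X := sp X) (Coh.toAb S.X₃) ⊤ n) := (eDelta_injective hS' ⊤ n).subsingleton
  exact (hEquiv (X := sp X) (Coh.toAb S.X₃) n).injective.subsingleton

/-- Global sections surject when `H¹` of the kernel vanishes. -/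
theorem app_top_surjective_of_shortExact {S : ShortComplex X.Modules} (hS : S.ShortExact)
    (h₁ : Subsingleton (Coh.HH X S.X₁ 1)) : Function.Surjective (S.g.app ⊤) := by
  have hS' := shortExact_toAb hS
  have : Subsingleton (EU (S.map (toAbF X)).X₁ ⊤ 1) :=
    (hEquiv (X := sp X) (Coh.toAb S.X₁) 1).symm.injective.subsingleton
  exact surjective_app_of_subsingleton hS' ⊤

/-- The short exact sequence of an epimorphism. -/
theorem shortExact_of_epi {M N : X.Modules} (φ : M ⟶ N) [Epi φ] :
    (ShortComplex.mk (kernel.ι φ) φ (kernel.condition φ)).ShortExact :=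
  { exact := ShortComplex.exact_of_f_is_kernel _ (kernelIsKernel φ) }

/-- Cohomology of a zero module. -/
theorem subsingleton_HH_of_isZero {Z : X.Modules} (hZ : IsZero Z) (n : ℕ) :
    Subsingleton (Coh.HH X Z n) :=
  Sheaf.subsingleton_H_of_isZero ((toAbF X).map_isZero hZ) n

/-- A zero module is quasi-coherent. -/
theorem isQuasicoherent_of_isZero {Z : X.Modules} (hZ : IsZero Z) : Z.IsQuasicoherent := by
  have := isQuasicoherent_oMod X
  have := QCohLib.isQuasicoherent_kernel (𝟙 (oMod X))
  exact QCohLib.isQuasicoherent_of_iso ((isZero_kernel_of_mono (𝟙 (oMod X))).iso hZ)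

/-- Binary biproducts as short exact sequences. -/
theorem shortExact_biprod (M N : X.Modules) :
    (ShortComplex.mk (biprod.inl : M ⟶ M ⊞ N) biprod.snd biprod.inl_snd).ShortExact :=
  (ShortComplex.Splitting.ofHasBinaryBiproduct M N).shortExact

theorem isQuasicoherent_biprod (M N : X.Modules) [M.IsQuasicoherent] [N.IsQuasicoherent] :
    (M ⊞ N).IsQuasicoherent := by
  have h := shortExact_biprod M N
  exact @QCohLib.isQuasicoherent_of_extension _ _ h ‹M.IsQuasicoherent› ‹N.IsQuasicoherent›

end Groth.Agent.CohVanish
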