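import Mathlib.CategoryTheory.Sites.SheafCohomology.MayerVietoris
import Mathlib.Topology.Sheaves.MayerVietoris
import Mathlib.AlgebraicGeometry.Morphisms.Affine
import Groth.Agent.CohVanish.Affine

/-!
# Mayer–Vietoris vanishing, and cohomological dimension via affine coverings
-/

universe u

open CategoryTheory Limits Opposite TopologicalSpace AlgebraicGeometry Abelian

namespace Groth.Agent.CohVanish

variable {X : TopCat.{u}}

/-- A class on `U ⊔ V` vanishes if cohomology vanishes on `U`, `V` and, one degree lower,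
on `U ⊓ V`. -/
lemma subsingleton_EU_sup (F : AbSh X) (U V : Opens X) (n : ℕ)
    (h₁ : Subsingleton (EU F (U ⊓ V) n)) (h₂ : Subsingleton (EU F U (n + 1)))
    (h₃ : Subsingleton (EU F V (n + 1))) : Subsingleton (EU F (U ⊔ V) (n + 1)) := by
  let S := Opens.mayerVietorisSquare U V
  have hex := (S.sequence_exact F n (n + 1) rfl).exact 2
  rw [ShortComplex.ab_exact_iff] at hex
  refine subsingleton_of_forall_eq 0 fun x => ?_
  have hx : (S.toBiprod F (n + 1)) x = 0 := by
    have := h₂
    have := h₃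
    haveI : Subsingleton (F.H' (n + 1) S.X₂ : AddCommGrpCat.{u}) := h₂
    haveI : Subsingleton (F.H' (n + 1) S.X₃ : AddCommGrpCat.{u}) := h₃
    exact (AddCommGrpCat.biprodIsoProd _ _).addCommGroupIsoToAddEquiv.injective (Subsingleton.elim _ _)
  obtain ⟨y, hy⟩ := hex x hx
  haveI : Subsingleton (F.H' n S.X₁ : AddCommGrpCat.{u}) := h₁
  rw [← hy]
  have : y = 0 := Subsingleton.elim (α := (F.H' n S.X₁ : AddCommGrpCat.{u})) y 0
  rw [this]
  exact map_zero _

/-- Cohomology on the empty open vanishes. -/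
lemma subsingleton_EU_bot (F : AbSh X) (n : ℕ) : Subsingleton (EU F ⊥ n) := by
  have hsec : ∀ G : AbSh X, Subsingleton (G.obj.obj (op (⊥ : Opens X))) := fun G =>
    AddCommGrpCat.subsingleton_of_isZero (TopCat.Sheaf.isTerminalOfEmpty G).isZero
  induction n generalizing F with
  | zero => have := hsec F; exact (eu0 ⊥ F).injective.subsingleton
  | succ n ih =>
    have := ih (injSES F).X₃
    exact (eDelta_surjective (injSES_shortExact F) ⊥ n).subsingleton

variable {Y : Scheme.{u}}

/-- A union of `k` members of a family of affine opens closed under meets has no quasi-coherent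
cohomology in degrees `≥ k`. -/
theorem subsingleton_EU_iSup_affine (M : Y.Modules) [M.IsQuasicoherent] (P : Y.Opens → Prop)
    (hP : ∀ V, P V → IsAffineOpen V) (hd : ∀ V W, P V → P W → P (V ⊓ W)) :
    ∀ (k : ℕ) (U : Fin k → Y.Opens) (_ : ∀ i, P (U i)) (n : ℕ), k ≤ n →
      Subsingleton (EU (X := sp Y) (Coh.toAb M) (⨆ i, U i) n) := by
  intro k
  induction k with
  | zero =>
    intro U _ n _
    rw [iSup_of_empty]
    exact subsingleton_EU_bot (X := sp Y) _ n
  | succ k ih =>
    intro U hU n hn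
    obtain ⟨n, rfl⟩ : ∃ m, n = m + 1 := ⟨n - 1, by omega⟩
    have e : (⨆ i, U i) = (⨆ i : Fin k, U i.castSucc) ⊔ U (Fin.last k) := by
      refine le_antisymm (iSup_le fun i => ?_) (sup_le (iSup_le fun i => le_iSup U _) (le_iSup U _))
      induction i using Fin.lastCases with
      | last => exact le_sup_right
      | cast i => exact le_sup_of_le_left (le_iSup (fun i : Fin k => U i.castSucc) i)
    rw [e]
    refine subsingleton_EU_sup (X := sp Y) _ _ _ n ?_ (ih _ (fun i => hU _) (n + 1) (by omega))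
      (subsingleton_EU_of_isAffineOpen M (hP _ (hU _)) n)
    rw [iSup_inf_eq]
    exact ih _ (fun i => hd _ _ (hU _) (hU _)) n (by omega)

/-- Cohomological dimension bound by the size of an affine covering. -/
theorem subsingleton_HH_of_affine_cover (M : Y.Modules) [M.IsQuasicoherent]
    (hd : ∀ V W : Y.Opens, IsAffineOpen V → IsAffineOpen W → IsAffineOpen (V ⊓ W))
    (t : ℕ) (U : Fin t → Y.Opens) (hU : ∀ i, IsAffineOpen (U i)) (hcov : ⨆ i, U i = ⊤)
    (n : ℕ) (hn : t ≤ n) : Subsingleton (Coh.HH Y M n) := by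
  have h := subsingleton_EU_iSup_affine M IsAffineOpen (fun _ h => h) hd t U hU n hn
  rw [hcov] at h
  exact (hEquiv (X := sp Y) (Coh.toAb M) n).injective.subsingleton

/-- A quasi-compact open inside an affine open has bounded quasi-coherent cohomological dimension. -/
theorem exists_bound_of_le_affine {W U : Y.Opens} (hW : IsAffineOpen W) (hU : IsCompact (U : Set Y))
    (hUW : U ≤ W) : ∃ d : ℕ, ∀ (M : Y.Modules) [M.IsQuasicoherent] (n : ℕ), d ≤ n →
      Subsingleton (EU (X := sp Y) (Coh.toAb M) U n) := by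
  classical
  have key : ∀ x : U, ∃ g : Γ(Y, W), Y.basicOpen g ≤ U ∧ x.1 ∈ Y.basicOpen g :=
    fun x => hW.exists_basicOpen_le ⟨x, x.2⟩ (hUW x.2)
  choose g hgU hxg using key
  obtain ⟨s, hs⟩ := hU.elim_finite_subcover (fun x : U => (Y.basicOpen (g x) : Set Y))
    (fun x => (Y.basicOpen (g x)).isOpen) fun x hx => Set.mem_iUnion.mpr ⟨⟨x, hx⟩, hxg _⟩
  refine ⟨s.card, fun M _ n hn => ?_⟩
  have e : U = ⨆ i : Fin s.card, Y.basicOpen (g (s.equivFin.symm i).1) := by
    refine le_antisymm (fun x hx => ?_) (iSup_le fun i => hgU _)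
    obtain ⟨i, hi, hxi⟩ : ∃ i ∈ s, x ∈ Y.basicOpen (g i) := by simpa using hs hx
    exact Opens.mem_iSup.mpr ⟨s.equivFin ⟨i, hi⟩, by rw [Equiv.symm_apply_apply]; exact hxi⟩
  rw [e]
  refine subsingleton_EU_iSup_affine M (fun V => ∃ f : Γ(Y, W), V = Y.basicOpen f) ?_ ?_ _ _
    (fun i => ⟨_, rfl⟩) n hn
  · rintro _ ⟨f, rfl⟩
    exact hW.basicOpen f
  · rintro _ _ ⟨f, rfl⟩ ⟨f', rfl⟩
    exact ⟨f * f', (Y.basicOpen_mul f f').symm⟩

/-- Quasi-compact opens of a quasi-separated scheme have bounded cohomological dimension. -/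
theorem exists_bound_of_isCompact [QuasiSeparatedSpace Y] (U : Y.Opens)
    (hU : IsCompact (U : Set Y)) : ∃ d : ℕ, ∀ (M : Y.Modules) [M.IsQuasicoherent] (n : ℕ), d ≤ n →
      Subsingleton (EU (X := sp Y) (Coh.toAb M) U n) := by
  refine compact_open_induction_on (P := fun U : Y.Opens => ∃ d : ℕ, ∀ (M : Y.Modules)
    [M.IsQuasicoherent] (n : ℕ), d ≤ n → Subsingleton (EU (X := sp Y) (Coh.toAb M) U n)) U hU ?_ ?_
  · exact ⟨0, fun M _ n _ => subsingleton_EU_bot (X := sp Y) _ n⟩
  · intro S hS V ih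
    obtain ⟨d, hd⟩ := ih
    obtain ⟨d', hd'⟩ := exists_bound_of_le_affine V.2
      (QuasiSeparatedSpace.inter_isCompact _ _ S.isOpen hS V.1.isOpen V.2.isCompact :
        IsCompact ((S ⊓ V.1 : Y.Opens) : Set Y)) inf_le_right
    refine ⟨max d (d' + 1), fun M _ n hn => ?_⟩
    obtain ⟨n, rfl⟩ : ∃ m, n = m + 1 := ⟨n - 1, by omega⟩
    exact subsingleton_EU_sup (X := sp Y) _ _ _ n (hd' M n (by omega)) (hd M (n + 1) (by omega))
      (subsingleton_EU_of_isAffineOpen M V.2 n)

/-- Quasi-compact quasi-separated schemes have bounded cohomological dimension. -/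
theorem exists_cohomological_bound [CompactSpace Y] [QuasiSeparatedSpace Y] :
    ∃ d : ℕ, ∀ (M : Y.Modules) [M.IsQuasicoherent] (n : ℕ), d ≤ n →
      Subsingleton (Coh.HH Y M n) := by
  obtain ⟨d, hd⟩ := exists_bound_of_isCompact (⊤ : Y.Opens) isCompact_univ
  refine ⟨d, fun M _ n hn => ?_⟩
  have := hd M n hn
  exact (hEquiv (X := sp Y) (Coh.toAb M) n).injective.subsingleton

end Groth.Agent.CohVanish
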