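import Groth.Agent.CohVanish.Affine

/-!
# Cohomology along affine morphisms
-/

universe u

open CategoryTheory Limits Opposite TopologicalSpace AlgebraicGeometry Abelian

namespace Groth.Agent.CohVanish

/-- For an affine morphism, direct image does not change cohomology of quasi-coherent modules. -/
theorem nonempty_HH_push_equiv {X S : Scheme.{u}} (f : X ⟶ S) [IsAffineHom f]
    (M : X.Modules) [M.IsQuasicoherent] (i : ℕ) :
    Nonempty (Coh.HH X M i ≃+ Coh.HH S ((Coh.push f).obj M) i) :=
  nonempty_H_pushforward_equiv (X := sp X) (Y := sp S) f.base (fun U : S.affineOpens => (U : S.Opens))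
    (by rw [Subtype.range_coe]; exact S.isBasis_affineOpens) (Coh.toAb M)
    (fun U n => subsingleton_EU_of_isAffineOpen M (U.2.preimage f) n) i

end Groth.Agent.CohVanish
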