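import Groth.Agent.CohVanish.Free

/-!
# Long exact sequences, flasque acyclicity and local vanishing of cohomology classes
-/

universe u

open CategoryTheory Limits Opposite TopologicalSpace Abelian

namespace Groth.Agent.CohVanish

variable {X : TopCat.{u}}

/-- `sec` as an additive equivalence. -/
noncomputable def secAddEquiv (U : Opens X) (F : AbSh X) :
    (freeSh U ⟶ F) ≃+ F.obj.obj (op U) :=
  AddEquiv.ofBijective sec (sec_bijective U F)

/-- Degree zero cohomology on an open is the group of sections. -/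
noncomputable def eu0 (U : Opens X) (F : AbSh X) : EU F U 0 ≃+ F.obj.obj (op U) :=
  Ext.addEquiv₀.trans (secAddEquiv U F)

lemma eu0_mk₀ {U : Opens X} {F : AbSh X} (φ : freeSh U ⟶ F) : eu0 U F (Ext.mk₀ φ) = sec φ := by
  have h : Ext.addEquiv₀ (Ext.mk₀ φ) = φ := (Ext.mk₀_bijective _ _).1 (by simp)
  change sec (Ext.addEquiv₀ (Ext.mk₀ φ)) = sec φ
  rw [h]

/-- Pushforward of classes along a morphism of sheaves. -/
noncomputable def eMap {F G : AbSh X} (φ : F ⟶ G) (U : Opens X) (n : ℕ) : EU F U n →+ EU G U n :=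
  (Ext.mk₀ φ).postcomp (freeSh U) (add_zero n)

/-- Restriction of classes to a smaller open. -/
noncomputable def eRes (F : AbSh X) {U V : Opens X} (i : U ⟶ V) (n : ℕ) : EU F V n →+ EU F U n :=
  (Ext.mk₀ (freeMap i)).precomp F (zero_add n)

lemma eMap_apply {F G : AbSh X} (φ : F ⟶ G) (U : Opens X) (n : ℕ) (x : EU F U n) :
    eMap φ U n x = x.comp (Ext.mk₀ φ) (add_zero n) := rfl

lemma eRes_apply (F : AbSh X) {U V : Opens X} (i : U ⟶ V) (n : ℕ) (x : EU F V n) :
    eRes F i n x = (Ext.mk₀ (freeMap i)).comp x (zero_add n) := rfl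

lemma eu0_eMap {F G : AbSh X} (φ : F ⟶ G) (U : Opens X) (x : EU F U 0) :
    eu0 U G (eMap φ U 0 x) = φ.hom.app (op U) (eu0 U F x) := by
  obtain ⟨ψ, rfl⟩ := (Ext.mk₀_bijective _ _).2 x
  rw [eMap_apply, Ext.mk₀_comp_mk₀, eu0_mk₀, eu0_mk₀, sec_comp]

lemma eu0_eRes (F : AbSh X) {U V : Opens X} (i : U ⟶ V) (x : EU F V 0) :
    eu0 U F (eRes F i 0 x) = F.obj.map i.op (eu0 V F x) := by
  obtain ⟨ψ, rfl⟩ := (Ext.mk₀_bijective _ _).2 x
  rw [eRes_apply, Ext.mk₀_comp_mk₀, eu0_mk₀, eu0_mk₀, sec_freeMap]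

lemma eMap_comp {F G H : AbSh X} (φ : F ⟶ G) (ψ : G ⟶ H) (U : Opens X) (n : ℕ) (x : EU F U n) :
    eMap (φ ≫ ψ) U n x = eMap ψ U n (eMap φ U n x) := by
  simp [eMap_apply]

lemma eMap_id {F : AbSh X} (U : Opens X) (n : ℕ) (x : EU F U n) : eMap (𝟙 F) U n x = x := by
  simp [eMap_apply]

lemma eMap_eRes {F G : AbSh X} (φ : F ⟶ G) {U V : Opens X} (i : U ⟶ V) (n : ℕ) (x : EU F V n) :
    eMap φ U n (eRes F i n x) = eRes G i n (eMap φ V n x) := by
  simp [eMap_apply, eRes_apply]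

lemma freeMap_comp {U V W : Opens X} (i : U ⟶ V) (j : V ⟶ W) :
    freeMap (i ≫ j) = freeMap i ≫ freeMap j := by
  refine Eq.trans ?_ (Functor.map_comp (presheafToSheaf _ _) _ _)
  rw [← Functor.whiskerRight_comp, ← Functor.map_comp]
  rfl

lemma eRes_eRes (F : AbSh X) {U V W : Opens X} (i : U ⟶ V) (j : V ⟶ W) (n : ℕ) (x : EU F W n) :
    eRes F i n (eRes F j n x) = eRes F (i ≫ j) n x := by
  simp [eRes_apply, freeMap_comp]

section SES

variable {S : ShortComplex (AbSh X)} (hS : S.ShortExact)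

/-- The connecting homomorphism. -/
noncomputable def eDelta (U : Opens X) (n : ℕ) : EU S.X₃ U n →+ EU S.X₁ U (n + 1) :=
  hS.extClass.postcomp (freeSh U) rfl

lemma eDelta_apply (U : Opens X) (n : ℕ) (x : EU S.X₃ U n) :
    eDelta hS U n x = x.comp hS.extClass rfl := rfl

lemma eDelta_eRes {U V : Opens X} (i : U ⟶ V) (n : ℕ) (x : EU S.X₃ V n) :
    eRes S.X₁ i (n + 1) (eDelta hS V n x) = eDelta hS U n (eRes S.X₃ i n x) := by
  rw [eDelta_apply, eDelta_apply, eRes_apply, eRes_apply]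
  exact (Ext.comp_assoc (a₁₂ := n) _ _ _ (zero_add n) rfl (by lia)).symm

lemma eDelta_naturality {T : ShortComplex (AbSh X)} (hT : T.ShortExact) (f : S ⟶ T)
    (U : Opens X) (n : ℕ) (x : EU S.X₃ U n) :
    eMap f.τ₁ U (n + 1) (eDelta hS U n x) = eDelta hT U n (eMap f.τ₃ U n x) := by
  rw [eDelta_apply, eDelta_apply, eMap_apply, eMap_apply,
    Ext.comp_assoc (a₂₃ := 1) _ _ _ rfl (add_zero 1) (by lia),
    ShortComplex.ShortExact.extClass_naturality hS hT f,
    ← Ext.comp_assoc (a₁₂ := n) _ _ _ (add_zero n) (zero_add 1) (by lia)]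

lemma eDelta_eq_zero_iff (U : Opens X) (n : ℕ) (x : EU S.X₃ U n) :
    eDelta hS U n x = 0 ↔ ∃ y, eMap S.g U n y = x := by
  refine ⟨fun h => Ext.covariant_sequence_exact₃ (freeSh U) hS x rfl h, ?_⟩
  rintro ⟨y, rfl⟩
  rw [eDelta_apply, eMap_apply,
    Ext.comp_assoc (a₂₃ := 1) _ _ _ (add_zero n) (zero_add 1) (by lia),
    ShortComplex.ShortExact.comp_extClass, Ext.comp_zero]

lemma eMap_f_eq_zero_iff (U : Opens X) (n : ℕ) (x : EU S.X₁ U (n + 1)) :
    eMap S.f U (n + 1) x = 0 ↔ ∃ y, eDelta hS U n y = x := by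
  refine ⟨fun h => Ext.covariant_sequence_exact₁ (freeSh U) hS x h rfl, ?_⟩
  rintro ⟨y, rfl⟩
  rw [eDelta_apply, eMap_apply,
    Ext.comp_assoc (a₂₃ := 1) _ _ _ rfl (add_zero 1) (by lia),
    ShortComplex.ShortExact.extClass_comp, Ext.comp_zero]

include hS in
lemma eMap_g_eq_zero_iff (U : Opens X) (n : ℕ) (x : EU S.X₂ U n) :
    eMap S.g U n x = 0 ↔ ∃ y, eMap S.f U n y = x := by
  refine ⟨fun h => Ext.covariant_sequence_exact₂ (freeSh U) hS x h, ?_⟩
  rintro ⟨y, rfl⟩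
  rw [← eMap_comp, S.zero, eMap_apply, Ext.mk₀_zero, Ext.comp_zero]

lemma eDelta_surjective (U : Opens X) (n : ℕ) [Subsingleton (EU S.X₂ U (n + 1))] :
    Function.Surjective (eDelta hS U n) := fun x =>
  (eMap_f_eq_zero_iff hS U n x).1 (Subsingleton.elim _ _)

lemma eDelta_injective (U : Opens X) (n : ℕ) [Subsingleton (EU S.X₂ U n)] :
    Function.Injective (eDelta hS U n) := by
  rw [injective_iff_map_eq_zero]
  intro x hx
  obtain ⟨y, rfl⟩ := (eDelta_eq_zero_iff hS U n x).1 hx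
  rw [Subsingleton.elim y 0, map_zero]

/-- Surjectivity on sections, as exactness in degree zero. -/
lemma eDelta_zero_eq_zero (U : Opens X) (x : EU S.X₃ U 0) :
    eDelta hS U 0 x = 0 ↔ ∃ t, S.g.hom.app (op U) t = eu0 U S.X₃ x := by
  rw [eDelta_eq_zero_iff]
  refine ⟨fun ⟨y, hy⟩ => ⟨eu0 U S.X₂ y, by rw [← eu0_eMap, hy]⟩, fun ⟨t, ht⟩ =>
    ⟨(eu0 U S.X₂).symm t, (eu0 U S.X₃).injective ?_⟩⟩
  rw [eu0_eMap, AddEquiv.apply_symm_apply, ht]

include hS in
/-- If `H¹(U, S.X₁) = 0` then sections over `U` surject. -/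
lemma surjective_app_of_subsingleton (U : Opens X) [Subsingleton (EU S.X₁ U 1)] :
    Function.Surjective (S.g.hom.app (op U)) := fun q => by
  obtain ⟨t, ht⟩ := (eDelta_zero_eq_zero hS U ((eu0 U S.X₃).symm q)).1 (Subsingleton.elim _ _)
  exact ⟨t, by rw [ht, AddEquiv.apply_symm_apply]⟩

include hS in
/-- Sections over opens near a point surject. -/
lemma exists_lift_near (U : Opens X) (q : S.X₃.obj.obj (op U)) (x : X) (hx : x ∈ U) :
    ∃ (W : Opens X) (hW : W ≤ U), x ∈ W ∧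
      ∃ t, S.g.hom.app (op W) t = S.X₃.obj.map (homOfLE hW).op q := by
  have := (TopCat.Sheaf.isLocallySurjective_iff_epi S.g).mpr hS.epi_g
  obtain ⟨W, hW, ht, hxW⟩ := (TopCat.Presheaf.isLocallySurjective_iff S.g.hom).mp this U q x hx
  exact ⟨W, hW, hxW, ht⟩

end SES

/-- A chosen embedding into an injective sheaf, as a short complex. -/
noncomputable def injSES (F : AbSh X) : ShortComplex (AbSh X) :=
  ShortComplex.mk (Injective.ι F) (cokernel.π _) (cokernel.condition _)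

lemma injSES_shortExact (F : AbSh X) : (injSES F).ShortExact where
  exact := ShortComplex.exact_of_g_is_cokernel _ (cokernelIsCokernel _)
  mono_f := Injective.ι_mono F
  epi_g := coequalizer.π_epi

instance injective_injSES (F : AbSh X) : Injective (injSES F).X₂ :=
  Injective.injective_under F

instance subsingleton_of_injective (F : AbSh X) [Injective F] (U : Opens X) (n : ℕ) :
    Subsingleton (EU F U (n + 1)) :=
  subsingleton_of_forall_eq 0 fun x => x.eq_zero_of_injective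

lemma subsingleton_of_flasque (F : AbSh X) [TopCat.Sheaf.IsFlasque F] (U : Opens X) (n : ℕ) :
    Subsingleton (EU F U (n + 1)) := by
  induction n generalizing F with
  | zero =>
    refine subsingleton_of_forall_eq 0 fun a => ?_
    obtain ⟨q, rfl⟩ := eDelta_surjective (injSES_shortExact F) U 0 a
    have : TopCat.Sheaf.IsFlasque (injSES F).X₁ := ‹_›
    have h := TopCat.Sheaf.IsFlasque.epi_of_shortExact (U := U) (injSES_shortExact F)
    exact (eDelta_zero_eq_zero _ U q).2 ((AddCommGrpCat.epi_iff_surjective _).1 h _)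
  | succ n ih =>
    refine subsingleton_of_forall_eq 0 fun a => ?_
    obtain ⟨q, rfl⟩ := eDelta_surjective (injSES_shortExact F) U (n + 1) a
    have : TopCat.Sheaf.IsFlasque (injSES F).X₁ := ‹_›
    have : TopCat.Sheaf.IsFlasque (injSES F).X₂ := isFlasque_of_injective _
    have : TopCat.Sheaf.IsFlasque (injSES F).X₃ :=
      TopCat.Sheaf.IsFlasque.of_shortExact_of_isFlasque₁₂ (injSES_shortExact F)
    have := ih (injSES F).X₃
    rw [Subsingleton.elim q 0]
    exact (map_zero _).trans rfl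

section

variable {S : ShortComplex (AbSh X)} (hS : S.ShortExact)

lemma exists_eRes_eDelta_zero_eq_zero (U : Opens X) (q : EU S.X₃ U 0) (x : X) (hx : x ∈ U) :
    ∃ (W : Opens X) (hW : W ≤ U), x ∈ W ∧
      eRes S.X₁ (homOfLE hW) 1 (eDelta hS U 0 q) = 0 := by
  obtain ⟨W, hW, hxW, t, ht⟩ := exists_lift_near hS U (eu0 U _ q) x hx
  refine ⟨W, hW, hxW, ?_⟩
  rw [eDelta_eRes]
  exact (eDelta_zero_eq_zero hS W _).2 ⟨t, ht.trans (eu0_eRes _ _ _).symm⟩

lemma exists_eRes_eDelta_eq_zero (U : Opens X) (n : ℕ) (q : EU S.X₃ U n) (x : X)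
    (h : ∃ (W : Opens X) (hW : W ≤ U), x ∈ W ∧ eRes S.X₃ (homOfLE hW) n q = 0) :
    ∃ (W : Opens X) (hW : W ≤ U), x ∈ W ∧
      eRes S.X₁ (homOfLE hW) (n + 1) (eDelta hS U n q) = 0 := by
  obtain ⟨W, hW, hxW, h⟩ := h
  refine ⟨W, hW, hxW, ?_⟩
  rw [eDelta_eRes, h, map_zero]

end

/-- Positive degree classes vanish locally. -/
lemma exists_eRes_eq_zero (F : AbSh X) (U : Opens X) (n : ℕ) (a : EU F U (n + 1)) (x : X)
    (hx : x ∈ U) : ∃ (W : Opens X) (hW : W ≤ U), x ∈ W ∧ eRes F (homOfLE hW) (n + 1) a = 0 := by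
  induction n generalizing F with
  | zero =>
    obtain ⟨q, rfl⟩ := eDelta_surjective (injSES_shortExact F) U 0 a
    exact exists_eRes_eDelta_zero_eq_zero (injSES_shortExact F) U q x hx
  | succ n ih =>
    obtain ⟨q, rfl⟩ := eDelta_surjective (injSES_shortExact F) U (n + 1) a
    exact exists_eRes_eDelta_eq_zero (injSES_shortExact F) U (n + 1) q x (ih (injSES F).X₃ q)

end Groth.Agent.CohVanish
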