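import Groth.Agent.CohVanish.Compare

/-!
# Cohomology of the space is cohomology on the open `⊤`
-/

universe u

open CategoryTheory Limits Opposite TopologicalSpace Abelian

namespace Groth.Agent.CohVanish

/-- Isomorphic objects have the same Ext groups out of them. -/
noncomputable def extPrecompIso {C : Type (u + 1)} [Category.{u} C] [Abelian C] [HasExt.{u} C]
    {A B : C} (e : A ≅ B) (F : C) (n : ℕ) : Ext.{u} B F n ≃+ Ext.{u} A F n where
  toFun x := (Ext.mk₀ e.hom).comp x (zero_add n)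
  invFun x := (Ext.mk₀ e.inv).comp x (zero_add n)
  left_inv x := by simp
  right_inv x := by simp
  map_add' x y := by simp

lemma extPrecompIso_comp {C : Type (u + 1)} [Category.{u} C] [Abelian C] [HasExt.{u} C]
    {A B : C} (e : A ≅ B) {F G : C} (φ : F ⟶ G) (n : ℕ) (x : Ext.{u} B F n) :
    extPrecompIso e G n (x.comp (Ext.mk₀ φ) (add_zero n)) =
      (extPrecompIso e F n x).comp (Ext.mk₀ φ) (add_zero n) :=
  (Ext.comp_assoc_of_third_deg_zero _ _ _ (zero_add n)).symm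

variable {X : TopCat.{u}}

/-- The constant sheaf `ℤ`. -/
noncomputable abbrev zSh (X : TopCat.{u}) : AbSh X :=
  (constantSheaf (Opens.grothendieckTopology X) AddCommGrpCat.{u}).obj
    (AddCommGrpCat.of (ULift.{u} ℤ))

/-- Maps out of the constant sheaf `ℤ` are global sections. -/
noncomputable def zSecEquiv (F : AbSh X) : (zSh X ⟶ F) ≃+ F.obj.obj (op ⊤) :=
  ((constantSheafAdj (Opens.grothendieckTopology X) AddCommGrpCat.{u}
    (isTerminalTop : IsTerminal (⊤ : Opens X))).homAddEquiv _ F).trans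
    (AddCommGrpCat.uliftZMultiplesAddEquiv _)

lemma zSecEquiv_comp {F G : AbSh X} (a : zSh X ⟶ F) (g : F ⟶ G) :
    zSecEquiv G (a ≫ g) = g.hom.app (op ⊤) (zSecEquiv F a) := rfl

/-- Maps out of `freeSh ⊤` and out of the constant sheaf `ℤ` agree. -/
noncomputable def zFreeEquiv (F : AbSh X) : (zSh X ⟶ F) ≃+ (freeSh (⊤ : Opens X) ⟶ F) :=
  (zSecEquiv F).trans (secAddEquiv ⊤ F).symm

lemma zFreeEquiv_comp {F G : AbSh X} (a : zSh X ⟶ F) (g : F ⟶ G) :
    zFreeEquiv G (a ≫ g) = zFreeEquiv F a ≫ g := by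
  apply (secAddEquiv ⊤ G).injective
  change secAddEquiv ⊤ G ((secAddEquiv ⊤ G).symm (zSecEquiv G (a ≫ g))) =
    sec ((secAddEquiv ⊤ F).symm (zSecEquiv F a) ≫ g)
  rw [AddEquiv.apply_symm_apply, zSecEquiv_comp, sec_comp]
  exact congrArg _ ((secAddEquiv ⊤ F).apply_symm_apply _).symm

lemma zFreeEquiv_symm_comp {F G : AbSh X} (a : freeSh (⊤ : Opens X) ⟶ F) (g : F ⟶ G) :
    (zFreeEquiv G).symm (a ≫ g) = (zFreeEquiv F).symm a ≫ g := by
  apply (zFreeEquiv G).injective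
  rw [AddEquiv.apply_symm_apply, zFreeEquiv_comp, AddEquiv.apply_symm_apply]

/-- The constant sheaf `ℤ` is the free sheaf on `⊤`. -/
noncomputable def zIso (X : TopCat.{u}) : freeSh (⊤ : Opens X) ≅ zSh X where
  hom := zFreeEquiv _ (𝟙 _)
  inv := (zFreeEquiv _).symm (𝟙 _)
  hom_inv_id := by
    rw [← zFreeEquiv_comp, Category.id_comp, AddEquiv.apply_symm_apply]
  inv_hom_id := by
    rw [← zFreeEquiv_symm_comp, Category.id_comp, AddEquiv.symm_apply_apply]

/-- Cohomology of `X` is cohomology on the open `⊤`. -/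
noncomputable def hEquiv (F : AbSh X) (n : ℕ) : Sheaf.H.{u} F n ≃+ EU F ⊤ n :=
  extPrecompIso (zIso X) F n

lemma hEquiv_map {F G : AbSh X} (φ : F ⟶ G) (n : ℕ) (x : Sheaf.H.{u} F n) :
    hEquiv G n (Sheaf.H.map φ n x) = eMap φ ⊤ n (hEquiv F n x) :=
  extPrecompIso_comp (zIso X) φ n x

/-- Cohomology of an open subspace. -/
theorem nonempty_H_restrict_equiv {Y : TopCat.{u}} {f : X ⟶ Y} (hf : Topology.IsOpenEmbedding f)
    (F : AbSh Y) (V : Opens Y) (hV : hf.isOpenMap.functor.obj ⊤ = V) (n : ℕ) :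
    Nonempty (EU F V n ≃+ Sheaf.H.{u} ((restrictSh hf).obj F) n) := by
  subst hV
  obtain ⟨e⟩ := nonempty_EU_restrict_equiv hf F ⊤ n
  exact ⟨e.trans (hEquiv ((restrictSh hf).obj F) n).symm⟩

/-- Cohomology of a direct image. -/
theorem nonempty_H_pushforward_equiv {Y : TopCat.{u}} (f : X ⟶ Y) {ι : Type*} (B : ι → Opens Y)
    (hB : Opens.IsBasis (Set.range B)) (F : AbSh X)
    (hF : ∀ i n, Subsingleton (EU F ((Opens.map f).obj (B i)) (n + 1))) (n : ℕ) :
    Nonempty (Sheaf.H.{u} F n ≃+ Sheaf.H.{u} ((pushSh f).obj F) n) := by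
  obtain ⟨e⟩ := nonempty_EU_pushforward_equiv f B hB F hF ⊤ n
  exact ⟨(hEquiv F n).trans (e.trans (hEquiv ((pushSh f).obj F) n).symm)⟩

end Groth.Agent.CohVanish
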