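import Mathlib.AlgebraicGeometry.QuasiAffine
import Mathlib.RingTheory.Finiteness.Projective
import Groth.Agent.CohVanish.Sections
import Groth.Agent.CohVanish.MV
import Groth.Agent.QCohLib.Criterion

/-!
# A quasi-affine scheme with acyclic structure sheaf is affine
-/

universe u

open CategoryTheory Limits Opposite TopologicalSpace AlgebraicGeometry Abelian

namespace Groth.Agent.CohVanish

variable {X : Scheme.{u}}

/-- The restriction of `g` to `X_g` is a unit, stated in the scheme's own ring. -/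
lemma isUnit_res (X : Scheme.{u}) {V : X.Opens} (g : Γ(X, V)) :
    IsUnit (X.presheaf.map (homOfLE (X.basicOpen_le g)).op g : Γ(X, X.basicOpen g)) :=
  RingedSpace.isUnit_res_basicOpen X.toRingedSpace g

/-- A morphism of modules on sections over an open, as a linear map. -/
noncomputable def appLin {M N : X.Modules} (φ : M ⟶ N) (V : X.Opens) :
    Γ(M, V) →ₗ[Γ(X, V)] Γ(N, V) where
  toFun := φ.app V
  map_add' := map_add _
  map_smul' r x := Scheme.Modules.Hom.app_smul φ r x

/-- Sections of `O_X`, as a linear equivalence. -/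
noncomputable def oModLin (X : Scheme.{u}) (V : X.Opens) : Γ(X, V) ≃ₗ[Γ(X, V)] Γ(oMod X, V) where
  toFun r := r
  invFun r := r
  map_add' _ _ := rfl
  map_smul' _ _ := rfl

/-- `E` has finite projective sections over the members of a family of opens. -/
def ProjOn {ι : Type*} (V : ι → X.Opens) (E : X.Modules) : Prop :=
  ∀ i, Module.Finite Γ(X, V i) Γ(E, V i) ∧ Module.Projective Γ(X, V i) Γ(E, V i)

lemma projOn_oMod {ι : Type*} (V : ι → X.Opens) : ProjOn V (oMod X) := fun i =>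
  ⟨Module.Finite.equiv (oModLin X (V i)), Module.Projective.of_equiv (oModLin X (V i))⟩

lemma projOn_of_isZero {ι : Type*} (V : ι → X.Opens) {Z : X.Modules} (hZ : IsZero Z) :
    ProjOn V Z := fun i => by
  have : Subsingleton Γ(Z, V i) := subsingleton_of_forall_eq 0 fun x =>
    ConcreteCategory.congr_hom (congrArg (fun φ : Z ⟶ Z => φ.app (V i))
      (hZ.eq_of_src (𝟙 Z) 0)) x
  exact ⟨inferInstance, inferInstance⟩

lemma projOn_biprod {ι : Type*} (V : ι → X.Opens) {M N : X.Modules} (hM : ProjOn V M)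
    (hN : ProjOn V N) : ProjOn V (M ⊞ N) := fun i => by
  obtain ⟨_, _⟩ := hM i
  obtain ⟨_, _⟩ := hN i
  let h : (Γ(M, V i) × Γ(N, V i)) →ₗ[Γ(X, V i)] Γ(M ⊞ N, V i) :=
    (appLin biprod.inl (V i)).coprod (appLin biprod.inr (V i))
  let h' : Γ(M ⊞ N, V i) →ₗ[Γ(X, V i)] (Γ(M, V i) × Γ(N, V i)) :=
    (appLin biprod.fst (V i)).prod (appLin biprod.snd (V i))
  have e1 : h.comp h' = LinearMap.id := LinearMap.ext fun z =>
    ConcreteCategory.congr_hom
      (congrArg (fun φ : M ⊞ N ⟶ M ⊞ N => φ.app (V i)) (biprod.total (X := M) (Y := N))) z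
  exact ⟨Module.Finite.of_surjective h (fun z => ⟨h' z, LinearMap.congr_fun e1 z⟩),
    Module.Projective.of_split h' h e1⟩

/-- A map whose sections over the `V i` are spanned is an epimorphism. -/
lemma epi_of_surjective_on_cover {F E : X.Modules} [E.IsQuasicoherent] (σ : F ⟶ E) {ι : Type*}
    (V : ι → X.Opens) (hV : ∀ i, IsAffineOpen (V i)) (hcov : ⨆ i, V i = ⊤)
    (hσ : ∀ i, Function.Surjective (σ.app (V i))) : Epi σ := by
  rw [QCohLib.epi_iff_locally_surjective]
  intro U t x hx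
  obtain ⟨i, hi⟩ := Opens.mem_iSup.mp (hcov.ge (Opens.mem_top x))
  obtain ⟨g, hgU, hxg⟩ := (hV i).exists_basicOpen_le ⟨x, hx⟩ hi
  obtain ⟨n, y, hy⟩ := QCohLib.exists_res_eq_pow_smul (hV i) g (X.basicOpen g) (X.basicOpen_le g)
    rfl (E.presheaf.map (homOfLE hgU).op t)
  obtain ⟨z, rfl⟩ := hσ i y
  obtain ⟨w, hw⟩ := (isUnit_res X g).pow n
  refine ⟨X.basicOpen g, hgU,
    ⟨(↑w⁻¹ : Γ(X, X.basicOpen g)) • F.presheaf.map (homOfLE (X.basicOpen_le g)).op z, ?_⟩, hxg⟩
  rw [Scheme.Modules.Hom.app_smul, QCohLib.app_map, hy, ← mul_smul]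
  have : (↑w⁻¹ : Γ(X, X.basicOpen g)) * X.presheaf.map (homOfLE (X.basicOpen_le g)).op g ^ n = 1 :=
    (congrArg ((↑w⁻¹ : Γ(X, X.basicOpen g)) * ·) hw.symm).trans w.inv_mul
  rw [this, one_smul]

/-- The kernel of an epimorphism of modules with projective sections has projective sections. -/
lemma projOn_kernel {ι : Type*} (V : ι → X.Opens) (hV : ∀ i, IsAffineOpen (V i))
    {F E : X.Modules} [F.IsQuasicoherent] [E.IsQuasicoherent] (σ : F ⟶ E) [Epi σ]
    (hF : ProjOn V F) (hE : ProjOn V E) : ProjOn V (kernel σ) := fun i => by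
  obtain ⟨_, _⟩ := hF i
  obtain ⟨_, _⟩ := hE i
  obtain ⟨hinj, hex⟩ := QCohLib.sections_exact_of_shortExact (shortExact_of_epi σ) (V i)
  let g := appLin σ (V i)
  let j := appLin (kernel.ι σ) (V i)
  obtain ⟨s, hs⟩ := Module.projective_lifting_property g LinearMap.id
    (QCohLib.app_surjective_of_epi σ (hV i))
  have hgj : ∀ c, g (j c) = 0 := fun c =>
    ConcreteCategory.congr_hom (congrArg (fun φ : kernel σ ⟶ E => φ.app (V i)) (kernel.condition σ)) c
  let je : Γ(kernel σ, V i) ≃ₗ[Γ(X, V i)] LinearMap.ker g :=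
    LinearEquiv.ofBijective (j.codRestrict _ fun c => hgj c)
      ⟨fun a b h => hinj (congrArg Subtype.val h), fun ⟨z, hz⟩ => by
        obtain ⟨c, hc⟩ := hex z hz
        exact ⟨c, Subtype.ext hc⟩⟩
  let r : Γ(F, V i) →ₗ[Γ(X, V i)] LinearMap.ker g :=
    (LinearMap.id - s.comp g).codRestrict _ fun z => by
      rw [LinearMap.mem_ker, LinearMap.sub_apply, map_sub, LinearMap.comp_apply,
        show g (s (g z)) = g z from LinearMap.congr_fun hs (g z), LinearMap.id_apply, sub_self]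
  have hr : r.comp (LinearMap.ker g).subtype = LinearMap.id := LinearMap.ext fun z => Subtype.ext (by
    change (z : Γ(F, V i)) - s (g z) = z
    rw [z.2, map_zero, sub_zero])
  have := Module.Finite.of_surjective r fun z => ⟨z, LinearMap.congr_fun hr z⟩
  have := Module.Projective.of_split _ r hr
  exact ⟨Module.Finite.equiv je.symm, Module.Projective.of_equiv je.symm⟩

section Main

variable [CompactSpace X] [QuasiSeparatedSpace X] {n : ℕ} (f : Fin n → Γ(X, ⊤))
  (hf : ∀ i, IsAffineOpen (X.basicOpen (f i))) (hcov : ⨆ i, X.basicOpen (f i) = ⊤)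

include hf hcov in
/-- A module with finite sections on an affine cover by `X_{f i}` is a quotient of some `O_X^m`. -/
lemma exists_epi_of_finite (P : X.Modules → Prop) (hzero : ∀ Z : X.Modules, IsZero Z → P Z)
    (hstep : ∀ N, P N → P (oMod X ⊞ N)) (E : X.Modules) [E.IsQuasicoherent]
    (hfin : ∀ i, Module.Finite Γ(X, X.basicOpen (f i)) Γ(E, X.basicOpen (f i))) :
    ∃ (F : X.Modules) (σ : F ⟶ E), P F ∧ Epi σ := by
  classical
  choose S hS using fun i => (hfin i).fg_top
  have key : ∀ (p : Σ i, S i), ∃ (m : ℕ) (x : Γ(E, ⊤)),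
      E.presheaf.map (homOfLE (le_top (a := X.basicOpen (f p.1)))).op x =
        (X.presheaf.map (homOfLE (le_top (a := X.basicOpen (f p.1)))).op (f p.1)) ^ m • p.2.1 :=
    fun p => QCohLib.exists_res_eq_pow_smul_of_isCompact isCompact_univ isQuasiSeparated_univ
      (f p.1) _ le_top rfl p.2.1
  choose m x hx using key
  let e := Fintype.equivFin (Σ i, S i)
  obtain ⟨F, σ, hF, hσ⟩ := exists_free_hom P hzero hstep E _ (fun k => x (e.symm k))
  refine ⟨F, σ, hF, epi_of_surjective_on_cover σ _ hf hcov fun i y => ?_⟩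
  suffices h : y ∈ Submodule.span Γ(X, X.basicOpen (f i)) (Set.range fun k =>
      E.presheaf.map (homOfLE (le_top (a := X.basicOpen (f i)))).op (x (e.symm k))) from
    (hσ _).ge h
  have hy : y ∈ Submodule.span Γ(X, X.basicOpen (f i)) (S i : Set Γ(E, X.basicOpen (f i))) :=
    (hS i).ge Submodule.mem_top
  refine Submodule.span_le.mpr (fun z hz => ?_) hy
  obtain ⟨w, hw⟩ := (isUnit_res X (f i)).pow (m ⟨i, z, hz⟩)
  have h2 : z = (↑w⁻¹ : Γ(X, X.basicOpen (f i))) •
      E.presheaf.map (homOfLE (le_top (a := X.basicOpen (f i)))).op (x ⟨i, z, hz⟩) := by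
    rw [hx ⟨i, z, hz⟩, ← mul_smul]
    exact ((congrArg (· • z) ((congrArg _ hw.symm).trans w.inv_mul)).trans (one_smul _ _)).symm
  rw [h2]
  refine Submodule.smul_mem _ _ (Submodule.subset_span ⟨e ⟨i, z, hz⟩, ?_⟩)
  dsimp only
  rw [Equiv.symm_apply_apply]

include hf hcov in
/-- Descending induction on the degree: modules which are locally direct summands of `O^m` have no
higher cohomology. -/
lemma subsingleton_HH_of_projOn
    (hO : ∀ p : ℕ, 0 < p → Subsingleton (Coh.HH X (oMod X) p)) (E : X.Modules) [E.IsQuasicoherent]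
    (hE : ProjOn (fun i => X.basicOpen (f i)) E) (p : ℕ) (hp : 0 < p) :
    Subsingleton (Coh.HH X E p) := by
  obtain ⟨d, hd⟩ := exists_cohomological_bound (Y := X)
  suffices h : ∀ (k : ℕ) (E : X.Modules) [E.IsQuasicoherent],
      ProjOn (fun i => X.basicOpen (f i)) E → ∀ p, 0 < p → d ≤ p + k →
        Subsingleton (Coh.HH X E p) from h d E hE p hp (Nat.le_add_left d p)
  intro k
  induction k with
  | zero => exact fun E _ _ p _ hpd => hd E p hpd
  | succ k ih =>
    intro E _ hE p hp hpd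
    have := isQuasicoherent_oMod X
    obtain ⟨F, σ, ⟨hFq, hFp, hFH⟩, hσ⟩ := exists_epi_of_finite f hf hcov
      (fun N : X.Modules => N.IsQuasicoherent ∧ ProjOn (fun i => X.basicOpen (f i)) N ∧
        ∀ q, 0 < q → Subsingleton (Coh.HH X N q))
      (fun Z hZ => ⟨isQuasicoherent_of_isZero hZ, projOn_of_isZero _ hZ,
        fun q _ => subsingleton_HH_of_isZero hZ q⟩)
      (fun N ⟨hq, hN, hH⟩ => ⟨isQuasicoherent_biprod _ _, projOn_biprod _ (projOn_oMod _) hN,
        fun q hq' => subsingleton_HH_of_shortExact₂ (shortExact_biprod _ _) q (hO q hq') (hH q hq')⟩)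
      E (fun i => (hE i).1)
    have := QCohLib.isQuasicoherent_kernel σ
    exact subsingleton_HH_of_shortExact₃ (shortExact_of_epi σ) p (hFH p hp)
      (ih (kernel σ) (projOn_kernel _ hf σ hFp hE) (p + 1) (Nat.succ_pos p) (by omega))

include hf hcov in
lemma isAffine_of_cover_of_acyclic
    (hO : ∀ p : ℕ, 0 < p → Subsingleton (Coh.HH X (oMod X) p)) : IsAffine X := by
  have := isQuasicoherent_oMod X
  refine isAffine_of_isAffineOpen_basicOpen (Set.range f) ?_ (by rintro _ ⟨i, rfl⟩; exact hf i)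
  obtain ⟨F, σ, ⟨hFq, hFp⟩, hσ⟩ := exists_free_hom
    (fun N : X.Modules => N.IsQuasicoherent ∧ ProjOn (fun i => X.basicOpen (f i)) N)
    (fun Z hZ => ⟨isQuasicoherent_of_isZero hZ, projOn_of_isZero _ hZ⟩)
    (fun N ⟨hq, hN⟩ => ⟨isQuasicoherent_biprod _ _, projOn_biprod _ (projOn_oMod _) hN⟩)
    (oMod X) n f
  have : Epi σ := epi_of_surjective_on_cover σ _ hf hcov fun i y => by
    obtain ⟨w, hw⟩ := isUnit_res X (f i)
    obtain ⟨s, hs⟩ := (hσ (X.basicOpen (f i))).ge (Submodule.smul_mem _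
      ((show Γ(X, X.basicOpen (f i)) from y) * ↑w⁻¹) (Submodule.subset_span ⟨i, rfl⟩))
    refine ⟨s, hs.trans ?_⟩
    change (show Γ(X, X.basicOpen (f i)) from y) * ↑w⁻¹ *
      X.presheaf.map (homOfLE (le_top (a := X.basicOpen (f i)))).op (f i) = y
    exact (mul_assoc _ _ _).trans ((congrArg _ ((congrArg _ hw.symm).trans w.inv_mul)).trans (mul_one _))
  have := QCohLib.isQuasicoherent_kernel σ
  obtain ⟨s, hs⟩ := app_top_surjective_of_shortExact (shortExact_of_epi σ)
    (subsingleton_HH_of_projOn f hf hcov hO (kernel σ)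
      (projOn_kernel _ hf σ hFp (projOn_oMod _)) 1 Nat.one_pos) (1 : Γ(X, ⊤))
  rw [Ideal.eq_top_iff_one]
  refine Submodule.span_mono ?_ ((hσ ⊤).le ⟨s, hs⟩)
  rintro _ ⟨i, rfl⟩
  exact ⟨i, (congr($(X.presheaf.map_id (op ⊤)) (f i))).symm⟩

end Main

/-- **A quasi-affine scheme with acyclic structure sheaf is affine**. -/
theorem isAffine_of_isQuasiAffine_of_acyclic [X.IsQuasiAffine]
    (hO : ∀ p : ℕ, 0 < p → Subsingleton (Coh.HH X (oMod X) p)) : IsAffine X := by
  classical
  have key : ∀ x : X, ∃ r : Γ(X, ⊤), IsAffineOpen (X.basicOpen r) ∧ x ∈ X.basicOpen r := by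
    intro x
    obtain ⟨_, ⟨r, hr, rfl⟩, hxr, -⟩ :=
      Opens.isBasis_iff_nbhd.mp (Scheme.IsQuasiAffine.isBasis_basicOpen X) (Opens.mem_top x)
    exact ⟨r, hr, hxr⟩
  choose r hr hxr using key
  obtain ⟨t, ht⟩ := CompactSpace.elim_nhds_subcover (fun x => (X.basicOpen (r x) : Set X))
    fun x => (X.basicOpen (r x)).isOpen.mem_nhds (hxr x)
  refine isAffine_of_cover_of_acyclic (fun i : Fin t.card => r (t.equivFin.symm i).1)
    (fun i => hr _) (top_le_iff.mp fun x _ => ?_) hO
  obtain ⟨a, ha, hxa⟩ : ∃ a ∈ t, x ∈ X.basicOpen (r a) := by simpa using ht.ge (Set.mem_univ x)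
  exact Opens.mem_iSup.mpr ⟨t.equivFin ⟨a, ha⟩, by rw [Equiv.symm_apply_apply]; exact hxa⟩

end Groth.Agent.CohVanish
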