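import Groth.Agent.CohVanish.LES

/-!
# Comparing cohomology along functors of abelian sheaves by dimension shifting

A functor `Φ : AbSh X ⥤ AbSh Y` which is exact on enough short exact sequences and sends injectives to
acyclic sheaves, and which does not change sections over chosen opens, does not change cohomology.
Applications: restriction to an open subspace, and direct image of a sheaf with vanishing higher
direct images.
-/

universe u

open CategoryTheory Limits Opposite TopologicalSpace Abelian

namespace Groth.Agent.CohVanish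

/-- Two surjective homomorphisms with the same kernel have isomorphic targets. -/
lemma nonempty_addEquiv_of_ker {A B C : Type u} [AddCommGroup A] [AddCommGroup B] [AddCommGroup C]
    (f : A →+ B) (g : A →+ C) (hf : Function.Surjective f) (hg : Function.Surjective g)
    (h : ∀ a, f a = 0 ↔ g a = 0) : Nonempty (B ≃+ C) :=
  ⟨((QuotientAddGroup.quotientKerEquivOfSurjective f hf).symm.trans
    (QuotientAddGroup.quotientAddEquivOfEq (by ext a; exact h a))).trans
    (QuotientAddGroup.quotientKerEquivOfSurjective g hg)⟩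

variable {X Y : TopCat.{u}}

theorem nonempty_EU_equiv (Φ : AbSh X ⥤ AbSh Y) [Φ.Additive] (U : Opens X) (U' : Opens Y)
    (γ : ∀ F : AbSh X, F.obj.obj (op U) ≃+ (Φ.obj F).obj.obj (op U'))
    (hγ : ∀ {F G : AbSh X} (φ : F ⟶ G) (s : F.obj.obj (op U)),
      γ G (φ.hom.app (op U) s) = (Φ.map φ).hom.app (op U') (γ F s))
    (P : AbSh X → Prop)
    (hQ : ∀ F, P F → P (injSES F).X₃)
    (hS : ∀ F, P F → ((injSES F).map Φ).ShortExact)
    (hI : ∀ (I : AbSh X) [Injective I] (n : ℕ), Subsingleton (EU (Φ.obj I) U' (n + 1)))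
    (n : ℕ) : ∀ F, P F → Nonempty (EU F U n ≃+ EU (Φ.obj F) U' n) := by
  induction n with
  | zero => exact fun F _ => ⟨((eu0 U F).trans (γ F)).trans (eu0 U' (Φ.obj F)).symm⟩
  | succ n ih =>
    intro F hF
    have h1 := injSES_shortExact F
    have h2 := hS F hF
    have : Subsingleton (EU ((injSES F).map Φ).X₂ U' (n + 1)) := hI (injSES F).X₂ n
    rcases n with _ | n
    · obtain ⟨e⟩ := nonempty_addEquiv_of_ker
        ((eDelta h1 U 0).comp (eu0 U (injSES F).X₃).symm.toAddMonoidHom)
        (((eDelta h2 U' 0).comp (eu0 U' ((injSES F).map Φ).X₃).symm.toAddMonoidHom).comp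
          (γ (injSES F).X₃).toAddMonoidHom)
        ((eDelta_surjective h1 U 0).comp (eu0 U (injSES F).X₃).symm.surjective)
        (((eDelta_surjective h2 U' 0).comp (eu0 U' ((injSES F).map Φ).X₃).symm.surjective).comp
          (γ (injSES F).X₃).surjective) (fun q => by
          refine (eDelta_zero_eq_zero h1 U _).trans (Iff.trans ?_ (eDelta_zero_eq_zero h2 U' _).symm)
          simp only [AddEquiv.coe_toAddMonoidHom, AddEquiv.apply_symm_apply]
          refine ⟨fun ⟨t, ht⟩ => ⟨γ (injSES F).X₂ t, ?_⟩, fun ⟨t, ht⟩ =>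
            ⟨(γ (injSES F).X₂).symm t, ?_⟩⟩
          · exact (hγ (injSES F).g t).symm.trans (congrArg (γ _) ht)
          · refine (γ _).injective ((hγ (injSES F).g _).trans ?_)
            exact (congrArg _ ((γ _).apply_symm_apply t)).trans ht)
      exact ⟨e⟩
    · have : Subsingleton (EU ((injSES F).map Φ).X₂ U' (n + 1)) := hI (injSES F).X₂ n
      obtain ⟨e⟩ := ih (injSES F).X₃ (hQ F hF)
      exact ⟨((AddEquiv.ofBijective (eDelta h1 U (n + 1))
        ⟨eDelta_injective h1 U (n + 1), eDelta_surjective h1 U (n + 1)⟩).symm.trans e).trans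
        (AddEquiv.ofBijective (eDelta h2 U' (n + 1))
        ⟨eDelta_injective h2 U' (n + 1), eDelta_surjective h2 U' (n + 1)⟩)⟩

/-- A morphism of sheaves with local lifts is an epimorphism. -/
lemma epi_of_local_lifts {F G : AbSh X} (g : F ⟶ G)
    (h : ∀ (U : Opens X) (q : G.obj.obj (op U)), ∀ x ∈ U, ∃ (W : Opens X) (hW : W ≤ U), x ∈ W ∧
      ∃ t, g.hom.app (op W) t = G.obj.map (homOfLE hW).op q) : Epi g := by
  refine (TopCat.Sheaf.isLocallySurjective_iff_epi g).mp ?_
  refine (TopCat.Presheaf.isLocallySurjective_iff g.hom).mpr fun U q x hx => ?_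
  obtain ⟨W, hW, hxW, ht⟩ := h U q x hx
  exact ⟨W, hW, ht, hxW⟩

lemma shortExact_map_of_epi (Φ : AbSh X ⥤ AbSh Y) [Φ.Additive] [PreservesFiniteLimits Φ]
    {S : ShortComplex (AbSh X)} (hS : S.ShortExact) (he : Epi (Φ.map S.g)) :
    (S.map Φ).ShortExact where
  exact := (((Functor.preservesFiniteLimits_tfae Φ).out 1 3 rfl rfl).mpr
    inferInstance S ⟨hS.exact, hS.mono_f⟩).1
  mono_f := (((Functor.preservesFiniteLimits_tfae Φ).out 1 3 rfl rfl).mpr
    inferInstance S ⟨hS.exact, hS.mono_f⟩).2
  epi_g := he

section Pushforward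

variable (f : X ⟶ Y)

/-- Direct image of abelian sheaves. -/
noncomputable abbrev pushSh : AbSh X ⥤ AbSh Y := TopCat.Sheaf.pushforward AddCommGrpCat.{u} f

instance : (pushSh f).Additive where

instance : PreservesFiniteLimits (pushSh f) :=
  have : PreservesLimitsOfSize.{0, 0} (pushSh f) :=
    (TopCat.Sheaf.pullbackPushforwardAdjunction AddCommGrpCat.{u} f).rightAdjoint_preservesLimits
  PreservesLimitsOfSize.preservesFiniteLimits _

/-- If the higher cohomology of `F` vanishes over the preimages of the members of a basis, then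
`F` and its direct image have the same cohomology. -/
theorem nonempty_EU_pushforward_equiv {ι : Type*} (B : ι → Opens Y)
    (hB : Opens.IsBasis (Set.range B)) (F : AbSh X)
    (hF : ∀ i n, Subsingleton (EU F ((Opens.map f).obj (B i)) (n + 1))) (U : Opens Y) (n : ℕ) :
    Nonempty (EU F ((Opens.map f).obj U) n ≃+ EU ((pushSh f).obj F) U n) := by
  refine nonempty_EU_equiv (pushSh f) _ U (fun G => AddEquiv.refl _) (fun _ _ => rfl)
    (fun G => ∀ i m, Subsingleton (EU G ((Opens.map f).obj (B i)) (m + 1))) ?_ ?_ ?_ n F hF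
  · intro G hG i m
    have : Subsingleton (EU (injSES G).X₁ ((Opens.map f).obj (B i)) (m + 1 + 1)) := hG i (m + 1)
    exact (eDelta_injective (injSES_shortExact G) ((Opens.map f).obj (B i)) (m + 1)).subsingleton
  · intro G hG
    refine shortExact_map_of_epi _ (injSES_shortExact G) (epi_of_local_lifts _ fun U q x hx => ?_)
    obtain ⟨_, ⟨i, rfl⟩, hxi, hiU⟩ := Opens.isBasis_iff_nbhd.mp hB hx
    have : Subsingleton (EU (injSES G).X₁ ((Opens.map f).obj (B i)) 1) := hG i 0
    exact ⟨B i, hiU, hxi,
      surjective_app_of_subsingleton (injSES_shortExact G) ((Opens.map f).obj (B i)) _⟩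
  · intro I _ m
    have := isFlasque_of_injective I
    have : TopCat.Sheaf.IsFlasque ((pushSh f).obj I) :=
      TopCat.Sheaf.IsFlasque.pushforward_isFlasque I f
    exact subsingleton_of_flasque _ _ _

end Pushforward

section Restrict

variable {f : X ⟶ Y} (hf : Topology.IsOpenEmbedding f)

/-- Restriction of abelian sheaves along an open embedding. -/
noncomputable abbrev restrictSh : AbSh Y ⥤ AbSh X :=
  haveI := hf.functor_isContinuous
  hf.isOpenMap.functor.sheafPushforwardContinuous AddCommGrpCat.{u} _ _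

instance : (restrictSh hf).Additive where

instance : PreservesFiniteLimits (restrictSh hf) := by
  have : PreservesFiniteLimits (restrictSh hf ⋙ sheafToPresheaf _ _) :=
    inferInstanceAs (PreservesFiniteLimits (sheafToPresheaf _ _ ⋙
      (Functor.whiskeringLeft _ _ AddCommGrpCat.{u}).obj hf.isOpenMap.functor.op))
  exact preservesFiniteLimits_of_reflects_of_preserves _ (sheafToPresheaf _ _)

lemma isFlasque_restrictSh (F : AbSh Y) [TopCat.Sheaf.IsFlasque F] :
    TopCat.Sheaf.IsFlasque ((restrictSh hf).obj F) where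
  epi i := TopCat.Presheaf.IsFlasque.epi (F := F.obj) (hf.isOpenMap.functor.op.map i)

/-- Cohomology on an open subspace. -/
theorem nonempty_EU_restrict_equiv (F : AbSh Y) (U : Opens X) (n : ℕ) :
    Nonempty (EU F (hf.isOpenMap.functor.obj U) n ≃+ EU ((restrictSh hf).obj F) U n) := by
  refine nonempty_EU_equiv (restrictSh hf) _ U (fun G => AddEquiv.refl _) (fun _ _ => rfl)
    (fun _ => True) (fun _ _ => trivial) ?_ ?_ n F trivial
  · intro G _
    refine shortExact_map_of_epi _ (injSES_shortExact G) (epi_of_local_lifts _ fun U q x hx => ?_)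
    obtain ⟨W, hW, hxW, t, ht⟩ := exists_lift_near (injSES_shortExact G)
      (hf.isOpenMap.functor.obj U) q (f x) ⟨x, hx, rfl⟩
    have hle : hf.isOpenMap.functor.obj ((Opens.map f).obj W) ≤ W := by
      rintro _ ⟨y, hy, rfl⟩; exact hy
    have hWU : (Opens.map f).obj W ≤ U := by
      intro y hy
      obtain ⟨z, hz, hzy⟩ := hW hy
      exact hf.injective hzy ▸ hz
    refine ⟨(Opens.map f).obj W, hWU, hxW, (injSES G).X₂.obj.map (homOfLE hle).op t, ?_⟩
    refine (congr($((injSES G).g.hom.naturality (homOfLE hle).op) t)).trans ?_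
    change (injSES G).X₃.obj.map _ ((injSES G).g.hom.app _ t) = _
    rw [ht]
    exact congr($(((injSES G).X₃.obj.map_comp (homOfLE hW).op (homOfLE hle).op).symm) q)
  · intro I _ m
    have := isFlasque_of_injective I
    have := isFlasque_restrictSh hf I
    exact subsingleton_of_flasque _ _ _

end Restrict

end Groth.Agent.CohVanish
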