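import Mathlib.Topology.Sheaves.Flasque
import Mathlib.CategoryTheory.Sites.SheafCohomology.Basic
import Mathlib.CategoryTheory.Abelian.GrothendieckCategory.HasExt
import Mathlib.CategoryTheory.Abelian.GrothendieckCategory.EnoughInjectives
import Mathlib.CategoryTheory.Abelian.GrothendieckAxioms.Sheaf
import Mathlib.Algebra.Category.Grp.AB
import Mathlib.Algebra.Category.Grp.Adjunctions

/-!
# Free abelian sheaves on opens, and cohomology on an open as Ext

`freeSh U` is the free abelian sheaf on the open `U`; maps out of it are sections over `U`, and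
`Abelian.Ext (freeSh U) F n` is Mathlib's `Sheaf.H' F n U`.
-/

universe u

open CategoryTheory Limits Opposite TopologicalSpace Abelian

namespace Groth.Agent.CohVanish

/-- Abelian sheaves on a topological space. -/
abbrev AbSh (X : TopCat.{u}) : Type (u + 1) :=
  Sheaf (Opens.grothendieckTopology X) AddCommGrpCat.{u}

variable {X : TopCat.{u}}

/- The instances found by type class search are huge terms which the kernel would check again in
every declaration; the following scoped shortcuts keep the terms small. -/

theorem hasSheafify_abSh (X : TopCat.{u}) :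
    HasSheafify (Opens.grothendieckTopology X) AddCommGrpCat.{u} := inferInstance

attribute [scoped instance 2000] hasSheafify_abSh

theorem hasWeakSheafify_abSh (X : TopCat.{u}) :
    HasWeakSheafify (Opens.grothendieckTopology X) AddCommGrpCat.{u} := inferInstance

attribute [scoped instance 2000] hasWeakSheafify_abSh

theorem isGrothendieckAbelian_abSh (X : TopCat.{u}) : IsGrothendieckAbelian.{u} (AbSh X) :=
  Sheaf.isGrothendieckAbelian_of_essentiallySmall _ _

attribute [scoped instance 2000] isGrothendieckAbelian_abSh

theorem hasExt_abSh (X : TopCat.{u}) : HasExt.{u} (AbSh X) := inferInstance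

attribute [scoped instance 2000] hasExt_abSh

theorem enoughInjectives_abSh (X : TopCat.{u}) : EnoughInjectives (AbSh X) := inferInstance

attribute [scoped instance 2000] enoughInjectives_abSh

/-- The free abelian presheaf on an open, before sheafification. -/
noncomputable abbrev freePre (U : Opens X) : (Opens X)ᵒᵖ ⥤ AddCommGrpCat.{u} :=
  yoneda.obj U ⋙ AddCommGrpCat.free

/-- The free abelian sheaf on an open. -/
noncomputable def freeSh (U : Opens X) : AbSh X :=
  (presheafToSheaf _ _).obj (freePre U)

/-- The map of free abelian sheaves induced by an inclusion. -/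
noncomputable def freeMap {U V : Opens X} (i : U ⟶ V) : freeSh U ⟶ freeSh V :=
  (presheafToSheaf _ _).map (Functor.whiskerRight (yoneda.map i) AddCommGrpCat.free)

instance mono_freeMap {U V : Opens X} (i : U ⟶ V) : Mono (freeMap i) := by
  have : Mono i := ⟨fun _ _ _ => Subsingleton.elim _ _⟩
  have : Mono (Functor.whiskerRight (yoneda.map i) AddCommGrpCat.free) := by
    have : ∀ W, Mono ((Functor.whiskerRight (yoneda.map i) AddCommGrpCat.free).app W) := by
      intro W
      have : Mono ((yoneda.map i).app W) := inferInstance
      exact Functor.map_mono AddCommGrpCat.free ((yoneda.map i).app W)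
    exact NatTrans.mono_of_mono_app _
  exact @Functor.map_mono _ _ _ _ (presheafToSheaf (Opens.grothendieckTopology X) AddCommGrpCat.{u})
    inferInstance _ _ (Functor.whiskerRight (yoneda.map i) AddCommGrpCat.free) this

/-- The canonical section of the free sheaf on `U`. -/
noncomputable def gen (U : Opens X) : (freeSh U).obj.obj (op U) :=
  (toSheafify (Opens.grothendieckTopology X) (freePre U)).app (op U)
    (FreeAbelianGroup.of (𝟙 U) : FreeAbelianGroup (U ⟶ U))

/-- The section over `U` attached to a map out of the free sheaf on `U`. -/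
noncomputable def sec {U : Opens X} {F : AbSh X} : (freeSh U ⟶ F) →+ F.obj.obj (op U) where
  toFun φ := φ.hom.app (op U) (gen U)
  map_zero' := rfl
  map_add' _ _ := rfl

lemma sec_comp {U : Opens X} {F G : AbSh X} (φ : freeSh U ⟶ F) (g : F ⟶ G) :
    sec (φ ≫ g) = g.hom.app (op U) (sec φ) := rfl

/-- Maps out of the free sheaf on `U` are sections over `U`. -/
noncomputable def secEquiv (U : Opens X) (F : AbSh X) : (freeSh U ⟶ F) ≃ F.obj.obj (op U) :=
  (((sheafificationAdjunction _ AddCommGrpCat.{u}).homEquiv (freePre U) F).trans
    ((AddCommGrpCat.adj.whiskerRight (Opens X)ᵒᵖ).homEquiv (yoneda.obj U) F.obj)).trans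
    yonedaEquiv

lemma sec_eq_secEquiv {U : Opens X} {F : AbSh X} (φ : freeSh U ⟶ F) :
    sec φ = secEquiv U F φ := rfl

lemma sec_bijective (U : Opens X) (F : AbSh X) :
    Function.Bijective (sec : (freeSh U ⟶ F) → F.obj.obj (op U)) := by
  have h : (sec : (freeSh U ⟶ F) → F.obj.obj (op U)) = secEquiv U F :=
    funext sec_eq_secEquiv
  rw [h]
  exact (secEquiv U F).bijective

lemma freeMap_gen {U V : Opens X} (i : U ⟶ V) :
    (freeMap i).hom.app (op U) (gen U) = (freeSh V).obj.map i.op (gen V) := by
  have h1 := congr($((toSheafify_naturality (Opens.grothendieckTopology X)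
    (Functor.whiskerRight (yoneda.map i) AddCommGrpCat.free)).symm).app (op U)
      (FreeAbelianGroup.of (𝟙 U) : FreeAbelianGroup (U ⟶ U)))
  have h2 := congr($((toSheafify (Opens.grothendieckTopology X) (freePre V)).naturality i.op)
    (FreeAbelianGroup.of (𝟙 V) : FreeAbelianGroup (V ⟶ V)))
  exact h1.trans h2

lemma sec_freeMap {U V : Opens X} (i : U ⟶ V) {F : AbSh X} (φ : freeSh V ⟶ F) :
    sec (freeMap i ≫ φ) = F.obj.map i.op (sec φ) := by
  change φ.hom.app (op U) ((freeMap i).hom.app (op U) (gen U)) = _
  rw [freeMap_gen]
  exact congr($(φ.hom.naturality i.op) (gen V))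

/-- Sections of an injective sheaf extend. -/
lemma isFlasque_of_injective (F : AbSh X) [Injective F] : TopCat.Sheaf.IsFlasque F where
  epi {U V} i := by
    rw [AddCommGrpCat.epi_iff_surjective]
    intro s
    obtain ⟨φ, rfl⟩ := (sec_bijective V.unop F).2 s
    refine ⟨sec (Injective.factorThru φ (freeMap i.unop)), ?_⟩
    have := sec_freeMap i.unop (Injective.factorThru φ (freeMap i.unop))
    rw [Injective.comp_factorThru] at this
    exact this.symm

/-- Cohomology on an open. -/
noncomputable abbrev EU (F : AbSh X) (U : Opens X) (n : ℕ) : Type u := Ext.{u} (freeSh U) F n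

/-- Mathlib's `Sheaf.H'` is `EU`. -/
lemma EU_eq_H' (F : AbSh X) (U : Opens X) (n : ℕ) :
    EU F U n = ((Sheaf.H' F n U : AddCommGrpCat.{u}) : Type u) := rfl

end Groth.Agent.CohVanish
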